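import Groth.Prelude.Def_W4c1extbt610Disp

/-! Basic lemmas on 3n-displays (helper18). -/

set_option autoImplicit false
universe u v w

namespace Groth.Agent.Lib.Helper18.DispLib

open W4c1extbt610

variable {p : ℕ} [Fact p.Prime] {R : Type u} [CommRing R]
variable {P : Type v} [AddCommGroup P] [Module (WittVector p R) P]

theorem verschiebung_smul_mem (D : Display3n p R P) (w : WittVector p R) (x : P) :
    WittVector.verschiebung w • x ∈ D.Q :=
  D.IV_smul_le (Submodule.smul_mem_smul (verschiebung_mem_IV p R w) Submodule.mem_top)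

theorem Vinv_verschiebung_smul' (D : Display3n p R P) (w : WittVector p R) (x : P)
    (h : WittVector.verschiebung w • x ∈ D.Q) :
    D.Vinv ⟨WittVector.verschiebung w • x, h⟩ = w • D.F x :=
  D.Vinv_verschiebung_smul w x

theorem F_eq_Vinv (D : Display3n p R P) (x : P) :
    D.F x = D.Vinv ⟨WittVector.verschiebung (1 : WittVector p R) • x, verschiebung_smul_mem D 1 x⟩ := by
  rw [Vinv_verschiebung_smul', one_smul]

theorem frobenius_verschiebung_one :
    WittVector.frobenius (WittVector.verschiebung (1 : WittVector p R)) = (p : WittVector p R) := by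
  rw [WittVector.frobenius_verschiebung, one_mul]

theorem F_coe_eq_p_smul_Vinv (D : Display3n p R P) (y : D.Q) :
    D.F (y : P) = (p : WittVector p R) • D.Vinv y := by
  rw [F_eq_Vinv]
  have : (⟨WittVector.verschiebung (1 : WittVector p R) • (y : P), verschiebung_smul_mem D 1 y⟩ : D.Q)
      = WittVector.verschiebung (1 : WittVector p R) • y := Subtype.ext rfl
  rw [this, D.Vinv.map_smulₛₗ, frobenius_verschiebung_one]

theorem verschiebung_one_mul (b : WittVector p R) :
    WittVector.verschiebung (1 : WittVector p R) * b = WittVector.verschiebung (WittVector.frobenius b) := by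
  rw [← WittVector.verschiebung_mul_frobenius, one_mul]

theorem smul_verschiebung (c w : WittVector p R) :
    c * WittVector.verschiebung w = WittVector.verschiebung (WittVector.frobenius c * w) := by
  rw [mul_comm, ← WittVector.verschiebung_mul_frobenius, mul_comm]

theorem mem_IV_iff (r : WittVector p R) : r ∈ IV p R ↔ ∃ w, WittVector.verschiebung w = r := by
  constructor
  · intro h
    refine Submodule.span_induction (p := fun r _ => ∃ w, WittVector.verschiebung w = r) ?_ ?_ ?_ ?_ h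
    · rintro x ⟨w, rfl⟩; exact ⟨w, rfl⟩
    · exact ⟨0, map_zero _⟩
    · rintro x y _ _ ⟨a, rfl⟩ ⟨b, rfl⟩; exact ⟨a + b, map_add _ _ _⟩
    · rintro c x _ ⟨a, rfl⟩
      exact ⟨WittVector.frobenius c * a, by rw [smul_eq_mul, smul_verschiebung]⟩
  · rintro ⟨w, rfl⟩; exact verschiebung_mem_IV p R w

/-- If `S` contains `Vinv l` for `l ∈ L` and `F t` for `t ∈ T`, where `Q = L ⊔ IV • T`, then `S` contains
the whole image of `Vinv`. -/
theorem Vinv_mem_of_normal (D : Display3n p R P) (L T : Submodule (WittVector p R) P)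
    (hQ : D.Q = L ⊔ IV p R • T) (S : Submodule (WittVector p R) P)
    (hL : ∀ (l : P) (_ : l ∈ L) (h : l ∈ D.Q), D.Vinv ⟨l, h⟩ ∈ S)
    (hT : ∀ t ∈ T, D.F t ∈ S) (y : D.Q) : D.Vinv y ∈ S := by
  obtain ⟨y, hy⟩ := y
  have hy' := hy
  rw [hQ, Submodule.mem_sup] at hy'
  obtain ⟨l, hl, z, hz, rfl⟩ := hy'
  have hLQ : L ≤ D.Q := by rw [hQ]; exact le_sup_left
  have key : ∃ hz' : z ∈ D.Q, D.Vinv ⟨z, hz'⟩ ∈ S := by
    refine Submodule.smul_induction_on (p := fun z => ∃ hz' : z ∈ D.Q, D.Vinv ⟨z, hz'⟩ ∈ S) hz ?_ ?_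
    · intro r hr t ht
      obtain ⟨w, rfl⟩ := (mem_IV_iff r).1 hr
      refine ⟨verschiebung_smul_mem D w t, ?_⟩
      rw [Vinv_verschiebung_smul']
      exact S.smul_mem _ (hT t ht)
    · rintro a b ⟨ha, ha'⟩ ⟨hb, hb'⟩
      refine ⟨D.Q.add_mem ha hb, ?_⟩
      have : (⟨a + b, D.Q.add_mem ha hb⟩ : D.Q) = ⟨a, ha⟩ + ⟨b, hb⟩ := rfl
      rw [this, map_add]
      exact S.add_mem ha' hb'
  obtain ⟨hz', hz''⟩ := key
  have : (⟨l + z, hy⟩ : D.Q) = ⟨l, hLQ hl⟩ + ⟨z, hz'⟩ := rfl
  rw [this, map_add]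
  exact S.add_mem (hL l hl _) hz''

end Groth.Agent.Lib.Helper18.DispLib
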