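import Mathlib
import Groth.Prelude.Def_Coh
import Groth.Agent.Lib.Helper18.Curve.Basic
import Groth.Agent.Lib.Helper18.Curve.GeomIrr
import Groth.Agent.Lib.Helper22.SchGeomConn3
import Groth.Agent.S9627

/-!
# Geometric irreducibility via the generic point

* the generic fibre of a surjective morphism of irreducible schemes is irreducible;
* an irreducible `k`-scheme whose generic residue field is geometrically irreducible over `k`
  is geometrically irreducible;
* if `Spec (K ⊗ k(α))` is irreducible for a separable `α ∈ K`, then `α ∈ k`.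
-/

set_option autoImplicit false
universe u
open CategoryTheory CategoryTheory.Limits AlgebraicGeometry TopologicalSpace TensorProduct

namespace Groth.Agent.Lib.Helper18.GeomIrrGen

open Groth.Agent.Lib.Helper18.Curve

section Topology

theorem irreducibleSpace_of_isOpenMap_of_generic_fibre {A B : Type*} [TopologicalSpace A]
    [TopologicalSpace B] {p : A → B} (hp : IsOpenMap p) {η : B}
    (hη : IsGenericPoint η (Set.univ : Set B)) (hfib : IsIrreducible (p ⁻¹' {η})) :
    IrreducibleSpace A := by
  rw [irreducibleSpace_def]
  obtain ⟨a0, ha0⟩ := hfib.1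
  refine ⟨⟨a0, trivial⟩, ?_⟩
  intro u v hu hv ⟨a, _, hau⟩ ⟨b, _, hbv⟩
  have key : ∀ w : Set A, IsOpen w → w.Nonempty → ((p ⁻¹' {η}) ∩ w).Nonempty := by
    intro w hw ⟨c, hc⟩
    have h1 : η ∈ p '' w :=
      (hη.mem_open_set_iff (hp w hw)).mpr ⟨p c, trivial, c, hc, rfl⟩
    obtain ⟨d, hd, hdη⟩ := h1
    exact ⟨d, hdη, hd⟩
  obtain ⟨c, hc1, hc2⟩ := hfib.2 u v hu hv (key u hu ⟨a, hau⟩) (key v hv ⟨b, hbv⟩)
  exact ⟨c, trivial, hc2⟩

end Topology

section Generic

/-- The image of the generic point under a surjective morphism of irreducible schemes is the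
generic point. -/
theorem map_genericPoint_of_surjective {Y X : Scheme.{u}} [IrreducibleSpace Y] [IrreducibleSpace X]
    (p : Y ⟶ X) (hp : Function.Surjective p) : p (genericPoint Y) = genericPoint X := by
  obtain ⟨y, hy⟩ := hp (genericPoint X)
  have h1 : genericPoint Y ⤳ y := (genericPoint_spec Y).specializes trivial
  have h2 := h1.map p.continuous
  rw [hy] at h2
  exact (h2.antisymm ((genericPoint_spec X).specializes trivial)).eq

/-- The generic fibre of a surjective morphism of irreducible schemes is irreducible. -/
theorem irreducibleSpace_pullback_generic {Y X : Scheme.{u}} [IrreducibleSpace Y]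
    [IrreducibleSpace X] (p : Y ⟶ X) (hp : Function.Surjective p) :
    IrreducibleSpace ↥(pullback (X.fromSpecResidueField (genericPoint X)) p) := by
  let g := X.fromSpecResidueField (genericPoint X)
  let e : pullback g p ⟶ Y := pullback.snd g p
  have hξ : genericPoint Y ∈ Set.range e := by
    rw [Scheme.Pullback.range_snd]
    show p (genericPoint Y) ∈ Set.range g
    rw [Scheme.range_fromSpecResidueField, map_genericPoint_of_surjective p hp]
    rfl
  exact irreducibleSpace_of_isInducing e.isEmbedding.isInducing (genericPoint_spec _) hξ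

end Generic

section OverField

variable {k : Type u} [Field k] {X : Scheme.{u}} (f : X ⟶ Spec (CommRingCat.of k))

/-- `k → κ(x)`. -/
noncomputable def resMap (x : X) : k →+* X.residueField x :=
  (X.residue x).hom.comp ((X.presheaf.germ ⊤ x trivial).hom.comp (Coh.toGlobal f))

theorem fromSpecResidueField_comp (x : X) :
    X.fromSpecResidueField x ≫ f = Spec.map (CommRingCat.ofHom (resMap f x)) := by
  refine (congrArg (fun g => X.fromSpecResidueField x ≫ g) (eq_toSpecΓ_comp f)).trans ?_
  show (Spec.map (X.residue x) ≫ X.fromSpecStalk x) ≫ X.toSpecΓ ≫ _ = _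
  rw [Category.assoc, Scheme.fromSpecStalk_toSpecΓ_assoc, ← Spec.map_comp, ← Spec.map_comp]
  rfl

instance subsingleton_spec_field : Subsingleton ↥(Spec (CommRingCat.of k)) :=
  inferInstanceAs (Subsingleton (PrimeSpectrum k))

theorem surjective_of_nonempty [Nonempty X] : Function.Surjective f := by
  intro y
  obtain ⟨x⟩ := (inferInstance : Nonempty X)
  exact ⟨x, Subsingleton.elim _ _⟩

theorem surjective_fst {Z : Scheme.{u}} (g : Z ⟶ Spec (CommRingCat.of k)) [Nonempty Z] :
    Function.Surjective (pullback.fst f g) := by
  rw [← Set.range_eq_univ, Scheme.Pullback.range_fst,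
    Set.range_eq_univ.mpr (surjective_of_nonempty g), Set.preimage_univ]

theorem surjective_snd {Z : Scheme.{u}} (g : Z ⟶ Spec (CommRingCat.of k)) [Nonempty X] :
    Function.Surjective (pullback.snd f g) := by
  rw [← Set.range_eq_univ, Scheme.Pullback.range_snd,
    Set.range_eq_univ.mpr (surjective_of_nonempty f), Set.preimage_univ]

instance (K : Type u) [Field K] : Nonempty ↥(Spec (CommRingCat.of K)) :=
  inferInstanceAs (Nonempty (PrimeSpectrum K))

/-- An irreducible `k`-scheme whose generic residue field is geometrically irreducible over `k`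
is geometrically irreducible. -/
theorem geometricallyIrreducible_of_generic [IrreducibleSpace X]
    (h : GeometricallyIrreducible (Spec.map (CommRingCat.ofHom (resMap f (genericPoint X))))) :
    GeometricallyIrreducible f := by
  refine ⟨geometrically_iff_of_isClosedUnderIsomorphisms.mpr fun K _ ι ↦ ?_⟩
  let g := X.fromSpecResidueField (genericPoint X)
  let π : pullback f ι ⟶ X := pullback.fst f ι
  have hπopen : IsOpenMap π := (pullback.fst f ι).isOpenMap
  -- the fibre of `π` over the generic point
  have hfibirr : IrreducibleSpace ↥(pullback g π) := by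
    have i1 : pullback g π ≅ pullback (g ≫ f) ι := pullbackRightPullbackFstIso f ι g
    have hgf : g ≫ f = Spec.map (CommRingCat.ofHom (resMap f (genericPoint X))) :=
      fromSpecResidueField_comp f _
    haveI : GeometricallyIrreducible (g ≫ f) := by rw [hgf]; exact h
    haveI : IrreducibleSpace ↥(pullback (g ≫ f) ι) :=
      pullback_of_geometrically
        (GeometricallyIrreducible.geometrically_irreducibleSpace (f := g ≫ f)) K ι
    exact irreducibleSpace_of_homeomorph (Scheme.homeoOfIso i1.symm)
  have hfib : IsIrreducible (π ⁻¹' {genericPoint X}) := by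
    have h1 : Set.range (pullback.snd g π) = π ⁻¹' {genericPoint X} := by
      rw [Scheme.Pullback.range_snd, Scheme.range_fromSpecResidueField]
    rw [← h1, ← Set.image_univ]
    exact (IrreducibleSpace.isIrreducible_univ _).image _
      (pullback.snd g π).continuous.continuousOn
  exact irreducibleSpace_of_isOpenMap_of_generic_fibre hπopen (genericPoint_spec X) hfib

/-- If `X_K` is irreducible then `Spec (κ(η) ⊗ K)` is irreducible, `η` the generic point
of the irreducible scheme `X`. -/
theorem irreducibleSpace_tensor_of_bc [IrreducibleSpace X] (K : Type u) [Field K] [Algebra k K]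
    [IrreducibleSpace ↥(pullback f (Spec.map (CommRingCat.ofHom (algebraMap k K))))] :
    letI := (resMap f (genericPoint X)).toAlgebra
    IrreducibleSpace (PrimeSpectrum (X.residueField (genericPoint X) ⊗[k] K)) := by
  letI := (resMap f (genericPoint X)).toAlgebra
  let ι : Spec (CommRingCat.of K) ⟶ Spec (CommRingCat.of k) :=
    Spec.map (CommRingCat.ofHom (algebraMap k K))
  let g := X.fromSpecResidueField (genericPoint X)
  let π : pullback f ι ⟶ X := pullback.fst f ι
  haveI : Nonempty X := inferInstance
  haveI hZ : IrreducibleSpace ↥(pullback g π) :=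
    irreducibleSpace_pullback_generic π (surjective_fst f ι)
  let i1 : pullback g π ≅ pullback (g ≫ f) ι := pullbackRightPullbackFstIso f ι g
  let i2 : pullback (g ≫ f) ι ≅
      pullback (Spec.map (CommRingCat.ofHom (resMap f (genericPoint X)))) ι :=
    pullback.congrHom (fromSpecResidueField_comp f _) rfl
  let i3 : pullback (Spec.map (CommRingCat.ofHom (resMap f (genericPoint X)))) ι ≅
      Spec (CommRingCat.of (X.residueField (genericPoint X) ⊗[k] K)) :=
    pullbackSpecIso k (X.residueField (genericPoint X)) K
  let hh : ↥(pullback g π) ≃ₜ PrimeSpectrum (X.residueField (genericPoint X) ⊗[k] K) :=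
    Scheme.homeoOfIso (i1 ≪≫ i2 ≪≫ i3)
  exact irreducibleSpace_of_homeomorph hh

end OverField

end Groth.Agent.Lib.Helper18.GeomIrrGen
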