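import Mathlib
import Groth.Prelude.Def_CurvBase
import Groth.Agent.Lib.Helper7.VarietyDim
import Groth.Agent.Lib.Helper18.GeomIrrGen

/-!
# Morphisms between integral schemes of the same dimension over a field: the generic fibre

For a `k`-morphism `f : X ⟶ Y` of integral schemes locally of finite type over `k` with
`dim X = dim Y < ∞`, the only point of `X` above the generic point of `Y` is the generic point.
-/

set_option autoImplicit false
set_option linter.style.haveILetI false
universe u
open CategoryTheory CategoryTheory.Limits AlgebraicGeometry TopologicalSpace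

namespace Groth.Agent.Lib.Helper18.GenFinite

open Groth.Agent.Lib.Helper7.SpecChain

section Top

variable {X : Type*} [TopologicalSpace X]

/-- Extending a chain of points by a strictly more generic point. -/
theorem isPtChain_snoc {m : ℕ} (x : Fin (m + 1) → X) (hc : IsPtChain x) (η : X)
    (h1 : η ⤳ x (Fin.last m)) (h2 : ¬ x (Fin.last m) ⤳ η) :
    IsPtChain (Fin.snoc (α := fun _ => X) x η : Fin (m + 2) → X) := by
  intro i
  induction i using Fin.lastCases with
  | last =>
    have e1 : (Fin.snoc (α := fun _ => X) x η : Fin (m + 2) → X) (Fin.last m).succ = η := by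
      rw [Fin.succ_last]; exact Fin.snoc_last (α := fun _ => X) _ _
    have e2 : (Fin.snoc (α := fun _ => X) x η : Fin (m + 2) → X) (Fin.last m).castSucc =
        x (Fin.last m) := Fin.snoc_castSucc (α := fun _ => X) _ _ _
    rw [e1, e2]
    exact ⟨h1, h2⟩
  | cast j =>
    have e1 : (Fin.snoc (α := fun _ => X) x η : Fin (m + 2) → X) j.castSucc.succ = x j.succ := by
      rw [← Fin.castSucc_succ]; exact Fin.snoc_castSucc (α := fun _ => X) _ _ _
    have e2 : (Fin.snoc (α := fun _ => X) x η : Fin (m + 2) → X) j.castSucc.castSucc =
        x j.castSucc := Fin.snoc_castSucc (α := fun _ => X) _ _ _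
    rw [e1, e2]
    exact hc j

/-- In a quasi-sober space with a generic point `η`, the closure of a point other than a generic
point has dimension `< dim X` (stated as `+ 1 ≤`, with natural number values). -/
theorem dim_closure_add_one_le [QuasiSober X] {η x : X}
    (hη : IsGenericPoint η (Set.univ : Set X)) (hx : ¬ x ⤳ η) (n : ℕ)
    (hn : topologicalKrullDim X = n) (nx : ℕ)
    (hnx : topologicalKrullDim ↥(closure ({x} : Set X)) = nx) : nx + 1 ≤ n := by
  have hunivdim : topologicalKrullDim ↥(Set.univ : Set X) = n := by
    rw [← hn]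
    exact IsHomeomorph.topologicalKrullDim_eq _ (Homeomorph.Set.univ X).isHomeomorph
  have key : ∀ (m : ℕ) (y : Fin (m + 1) → X), (∀ i, y i ∈ closure ({x} : Set X)) → IsPtChain y →
      m + 1 ≤ n := by
    intro m y hy hc
    have h1 : η ⤳ y (Fin.last m) := hη.specializes trivial
    have h2 : ¬ y (Fin.last m) ⤳ η := by
      intro h
      apply hx
      have : x ⤳ y (Fin.last m) := specializes_iff_mem_closure.mpr (hy _)
      exact this.trans h
    have hc' := isPtChain_snoc y hc η h1 h2
    have := le_dim_of_chain (Set.univ : Set X) isClosed_univ _ (fun _ => trivial) hc'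
    rw [hunivdim] at this
    exact_mod_cast this
  by_contra hcon
  push_neg at hcon
  -- `n ≤ nx`, i.e. `n < nx + 1`
  have hle : topologicalKrullDim ↥(closure ({x} : Set X)) ≤ ((n - 1 : ℕ) : WithBot ℕ∞) := by
    apply dim_le_of_chains _ isClosed_closure
    intro m y hy hc
    have := key m y hy hc
    have h3 : m ≤ n - 1 := by omega
    exact_mod_cast h3
  rw [hnx] at hle
  have h4 : nx ≤ n - 1 := by exact_mod_cast hle
  have h5 : 1 ≤ n := by
    have := key 0 (fun _ => x) (fun _ => subset_closure rfl) (fun i => i.elim0)
    omega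
  omega

end Top

section Sch

variable (k : Type u) [Field k]

/-- Transcendence degree over `k` of the residue field, as a function of the point. -/
noncomputable def td (X : Scheme.{u}) [X.Over (Spec (CommRingCat.of k))] (x : X) : Cardinal.{u} :=
  @Algebra.trdeg k (X.residueField x) _ _ (Curv2.resAlgebra k X x)

variable {X Y : Scheme.{u}} [X.Over (Spec (CommRingCat.of k))] [Y.Over (Spec (CommRingCat.of k))]
  (f : X ⟶ Y) (hf : f ≫ (Y ↘ Spec (CommRingCat.of k)) = X ↘ Spec (CommRingCat.of k))

include hf in
theorem residueFieldMap_resMap (x : X) (c : k) :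
    (f.residueFieldMap x).hom (Curv2.resMap k Y (f x) c) = Curv2.resMap k X x c := by
  have h1 : Spec.map (CommRingCat.ofHom (Curv2.resMap k X x)) =
      X.fromSpecResidueField x ≫ (X ↘ Spec (CommRingCat.of k)) :=
    (GeomIrrGen.fromSpecResidueField_comp (X ↘ Spec (CommRingCat.of k)) x).symm
  have h2 : Spec.map (CommRingCat.ofHom (Curv2.resMap k Y (f x))) =
      Y.fromSpecResidueField (f x) ≫ (Y ↘ Spec (CommRingCat.of k)) :=
    (GeomIrrGen.fromSpecResidueField_comp (Y ↘ Spec (CommRingCat.of k)) (f x)).symm
  have h3 : Spec.map (CommRingCat.ofHom (Curv2.resMap k X x)) =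
      Spec.map (CommRingCat.ofHom (Curv2.resMap k Y (f x)) ≫ f.residueFieldMap x) := by
    rw [h1, ← hf, ← Category.assoc, ← Scheme.Hom.SpecMap_residueFieldMap_fromSpecResidueField,
      Category.assoc, ← h2, Spec.map_comp]
  have h4 := Spec.map_injective h3
  have h5 := congrArg (fun ψ => ψ.hom c) h4
  exact h5.symm

include hf in
theorem td_le (x : X) : td k Y (f x) ≤ td k X x := by
  letI := Curv2.resAlgebra k X x
  letI := Curv2.resAlgebra k Y (f x)
  let ψ : Y.residueField (f x) →ₐ[k] X.residueField x :=
    { (f.residueFieldMap x).hom with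
      commutes' := fun c => residueFieldMap_resMap k f hf x c }
  exact _root_.trdeg_le_of_injective ψ (f.residueFieldMap x).hom.injective

include hf in
/-- For a `k`-morphism of integral schemes locally of finite type over `k` of the same
dimension, the generic point is the only point above the generic point. -/
theorem eq_genericPoint_of_map_eq [LocallyOfFiniteType (X ↘ Spec (CommRingCat.of k))]
    [LocallyOfFiniteType (Y ↘ Spec (CommRingCat.of k))] [IsIntegral X] [IsIntegral Y]
    (hdim : topologicalKrullDim X = topologicalKrullDim Y)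
    (x : X) (hx : f x = genericPoint Y) : x = genericPoint X := by
  obtain ⟨nX, hX1, hX2⟩ :=
    Groth.Agent.Lib.Helper7.VarDim.exists_nat_dim_closure_eq k X (genericPoint X)
  obtain ⟨nY, hY1, hY2⟩ :=
    Groth.Agent.Lib.Helper7.VarDim.exists_nat_dim_closure_eq k Y (genericPoint Y)
  obtain ⟨nx, hx1, hx2⟩ := Groth.Agent.Lib.Helper7.VarDim.exists_nat_dim_closure_eq k X x
  have hclX : closure ({genericPoint X} : Set X) = Set.univ := genericPoint_spec X
  have hclY : closure ({genericPoint Y} : Set Y) = Set.univ := genericPoint_spec Y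
  have hdX : topologicalKrullDim X = nX := by
    rw [← hX2, hclX]
    exact (IsHomeomorph.topologicalKrullDim_eq _ (Homeomorph.Set.univ X).isHomeomorph).symm
  have hdY : topologicalKrullDim Y = nY := by
    rw [← hY2, hclY]
    exact (IsHomeomorph.topologicalKrullDim_eq _ (Homeomorph.Set.univ Y).isHomeomorph).symm
  have hnXY : nX = nY := by
    have : (nX : WithBot ℕ∞) = (nY : WithBot ℕ∞) := by
      rw [← hdX, ← hdY, hdim]
    exact_mod_cast this
  have hle : nY ≤ nx := by
    have h1 := td_le k f hf x
    rw [hx] at h1
    have h2 : td k Y (genericPoint Y) = nY := hY1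
    have h3 : td k X x = nx := hx1
    rw [h2, h3] at h1
    exact_mod_cast h1
  by_contra hne
  have hns : ¬ x ⤳ genericPoint X := by
    intro h
    exact hne (h.antisymm ((genericPoint_spec X).specializes trivial)).eq
  have := dim_closure_add_one_le (genericPoint_spec X) hns nX hdX nx hx2
  omega

end Sch

end Groth.Agent.Lib.Helper18.GenFinite
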