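import Mathlib
import Groth.Prelude.Def_Cyc
import Groth.Agent.Lib.Helper18.GenFinite
import Groth.Agent.Lib.Helper18.GeomIrrGen

set_option autoImplicit false
universe u
open CategoryTheory AlgebraicGeometry

namespace Groth.Agent.Lib.Helper18.FibreTd

variable {X Y : Scheme.{u}}

/-- a morphism `Spec K → F` from the spectrum of a field which is a preimmersion induces an isomorphism
from the residue field of the image point to `K`. -/
theorem descResidueField_bijective {K : Type u} [Field K] {F : Scheme.{u}} (a : Spec (.of K) ⟶ F)
    [IsPreimmersion a] :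
    Function.Bijective (F.descResidueField (Scheme.stalkClosedPointTo a)).hom := by
  refine ⟨RingHom.injective _, ?_⟩
  have h := Scheme.descResidueField_stalkClosedPointTo_fromSpecResidueField K F a
  have h1 : IsPreimmersion (Spec.map (F.descResidueField (Scheme.stalkClosedPointTo a)) ≫
      F.fromSpecResidueField (a (IsLocalRing.closedPoint K))) := by rw [h]; infer_instance
  have h2 : IsPreimmersion (Spec.map (F.descResidueField (Scheme.stalkClosedPointTo a))) :=
    IsPreimmersion.of_comp _ (F.fromSpecResidueField (a (IsLocalRing.closedPoint K)))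
  have h3 := ((IsPreimmersion.SpecMap_iff _).mp h2).2
  exact RingHom.surjectiveOnStalks_iff_of_isLocalHom.mp h3


/-- the fibre as a scheme over the residue field (in the `CommRingCat.of` form used by the libraries) -/
@[reducible] noncomputable def fibreOver (f : X ⟶ Y) (y : Y) :
    (f.fiber y).Over (Spec (CommRingCat.of (Y.residueField y))) where
  hom := f.fiberToSpecResidueField y

set_option backward.isDefEq.respectTransparency.types false in
instance (f : X ⟶ Y) [LocallyOfFiniteType f] (y : Y) :
    LocallyOfFiniteType (f.fiberToSpecResidueField y) :=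
  MorphismProperty.pullback_snd _ _ inferInstance

/-- the transcendence degree of the residue field of the fibre at the point `x` over `κ(f x)` is that of
`κ(x)` over `κ(f x)` -/
theorem td_asFiber (f : X ⟶ Y) (x : X) :
    letI := fibreOver f (f x)
    GenFinite.td (Y.residueField (f x)) (f.fiber (f x)) (f.asFiber x) =
      @Algebra.trdeg (Y.residueField (f x)) (X.residueField x) _ _ (f.residueFieldMap x).hom.toAlgebra := by
  letI := fibreOver f (f x)
  let a : Spec (.of (X.residueField x)) ⟶ f.fiber (f x) := f.asFiberHom x
  have hpt : a (IsLocalRing.closedPoint (X.residueField x)) = f.asFiber x := f.asFiberHom_apply x _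
  rw [← hpt]
  have hbij := descResidueField_bijective a
  have h := Scheme.descResidueField_stalkClosedPointTo_fromSpecResidueField (X.residueField x)
    (f.fiber (f x)) a
  set ψ := (f.fiber (f x)).descResidueField (Scheme.stalkClosedPointTo a) with hψ
  have hcomm : CommRingCat.ofHom (Curv2.resMap (Y.residueField (f x)) (f.fiber (f x))
      (a (IsLocalRing.closedPoint (X.residueField x)))) ≫ ψ = f.residueFieldMap x := by
    apply Spec.map_injective
    have h1 : Spec.map (CommRingCat.ofHom (Curv2.resMap (Y.residueField (f x)) (f.fiber (f x))
        (a (IsLocalRing.closedPoint (X.residueField x))))) =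
        (f.fiber (f x)).fromSpecResidueField (a (IsLocalRing.closedPoint (X.residueField x))) ≫
          f.fiberToSpecResidueField (f x) :=
      (GeomIrrGen.fromSpecResidueField_comp (f.fiberToSpecResidueField (f x))
        (a (IsLocalRing.closedPoint (X.residueField x)))).symm
    rw [Spec.map_comp, h1, ← Category.assoc, h]
    exact f.asFiberHom_fiberToSpecResidueField x
  unfold GenFinite.td
  letI := Curv2.resAlgebra (Y.residueField (f x)) (f.fiber (f x))
    (a (IsLocalRing.closedPoint (X.residueField x)))
  letI := (f.residueFieldMap x).hom.toAlgebra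
  let e : (f.fiber (f x)).residueField (a (IsLocalRing.closedPoint (X.residueField x)))
      ≃ₐ[Y.residueField (f x)] X.residueField x :=
    AlgEquiv.ofBijective
      { ψ.hom with
        commutes' := fun c => by
          have := congrArg (fun φ => φ.hom c) hcomm
          exact this }
      hbij
  exact e.trdeg_eq

/-- in a quasi-sober space, the closure of a point without proper generalizations is an irreducible
component -/
theorem closure_singleton_mem_irreducibleComponents {α : Type*} [TopologicalSpace α] [QuasiSober α]
    (t : α) (h : ∀ z : α, z ⤳ t → closure ({z} : Set α) = closure {t}) :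
    closure ({t} : Set α) ∈ irreducibleComponents α := by
  refine ⟨isIrreducible_singleton.closure, fun s hs hle => ?_⟩
  have hcl : IsIrreducible (closure s) := hs.closure
  obtain ⟨ζ, hζ⟩ := QuasiSober.sober hcl isClosed_closure
  have hζ' : closure ({ζ} : Set α) = closure s := hζ
  have h1 : ζ ⤳ t := by
    rw [specializes_iff_mem_closure, hζ']
    exact subset_closure (hle (subset_closure rfl))
  rw [← h ζ h1, hζ']
  exact subset_closure

/-- S1861 core -/
theorem generic_of_component_preimage_flat (δX : X → ℤ) (δY : Y → ℤ) (f : X ⟶ Y) [Flat f]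
    [LocallyOfFiniteType f] (r : ℕ) (hr : Cyc.HasRelDim f r) (hδ : Cyc.DeltaCompat f δX δY) (y : Y) (x : X)
    (hx : f x ∈ closure ({y} : Set Y))
    (hmax : ∀ x' : X, f x' ∈ closure ({y} : Set Y) → x' ⤳ x → x' = x) :
    f x = y ∧ δX x = δY y + r := by
  have hfx : f x = y := by
    have h1 : y ⤳ f x := specializes_iff_mem_closure.2 hx
    obtain ⟨x', hx', hfx'⟩ := Flat.generalizingMap f h1
    have := hmax x' (by rw [hfx']; exact subset_closure rfl) hx'
    rw [← this, hfx']
  refine ⟨hfx, ?_⟩
  subst hfx
  letI := fibreOver f (f x)
  -- the point of the fibre has no proper generalization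
  have hgen : ∀ z : f.fiber (f x), z ⤳ f.asFiber x →
      closure ({z} : Set (f.fiber (f x))) = closure {f.asFiber x} := by
    intro z hz
    have h1 : f.fiberι (f x) z ⤳ x := by
      have := hz.map (f.fiberι (f x)).continuous
      rwa [f.fiberι_asFiber] at this
    have h2 : f (f.fiberι (f x) z) = f x := by
      have : f.fiberι (f x) z ∈ Set.range (f.fiberι (f x)) := ⟨z, rfl⟩
      rw [f.range_fiberι] at this
      exact this
    have h3 := hmax _ (by rw [h2]; exact subset_closure rfl) h1
    have h4 : z = f.asFiber x := by
      apply (f.fiberι (f x)).isEmbedding.injective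
      rw [h3, f.fiberι_asFiber]
    rw [h4]
  have hcomp := closure_singleton_mem_irreducibleComponents (f.asFiber x) hgen
  have hdim := hr (f x) _ hcomp
  haveI : LocallyOfFiniteType (f.fiber (f x) ↘ Spec (CommRingCat.of (Y.residueField (f x)))) :=
    (inferInstance : LocallyOfFiniteType (f.fiberToSpecResidueField (f x)))
  obtain ⟨m, hm1, hm2⟩ := Groth.Agent.Lib.Helper7.VarDim.exists_nat_dim_closure_eq
    (Y.residueField (f x)) (f.fiber (f x)) (f.asFiber x)
  obtain ⟨n, hn1, hn2⟩ := hδ x
  have htd := td_asFiber f x
  unfold GenFinite.td at htd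
  have hnm : n = m := by
    have : (n : Cardinal) = m := by rw [← hn1, ← hm1, ← htd]
    exact_mod_cast this
  have hmr : m = r := by
    have : ((m : ℕ) : WithBot ℕ∞) = (r : ℕ) := by rw [← hm2, ← hdim]
    exact_mod_cast this
  rw [hn2, hnm, hmr]

end Groth.Agent.Lib.Helper18.FibreTd
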