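import Mathlib
import Groth.Prelude.Def_Cyc

set_option autoImplicit false
universe u
open CategoryTheory AlgebraicGeometry

namespace Groth.Agent.Lib.Helper18.GenFin

variable {X Y : Scheme.{u}}

/-- a morphism with dense image between irreducible schemes maps the generic point to the generic point -/
theorem map_genericPoint_of_dense [IrreducibleSpace X] [IrreducibleSpace Y] (f : X ⟶ Y)
    (hd : Dense (Set.range f)) : f (genericPoint X) = genericPoint Y := by
  have h1 : ∀ x : X, f (genericPoint X) ⤳ f x := fun x =>
    ((genericPoint_spec X).specializes trivial).map f.continuous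
  have h2 : Set.range f ⊆ closure {f (genericPoint X)} := by
    rintro _ ⟨x, rfl⟩
    exact (h1 x).mem_closure
  have h3 : closure {f (genericPoint X)} = Set.univ := by
    apply Set.eq_univ_of_univ_subset
    rw [← hd.closure_eq]
    exact closure_minimal h2 isClosed_closure
  have h4 : IsGenericPoint (f (genericPoint X)) (Set.univ : Set Y) := h3
  exact h4.eq (genericPoint_spec Y)

/-- residue field extensions of morphisms locally of finite type are essentially of finite type -/
theorem essFiniteType_residueFieldMap (f : X ⟶ Y) [LocallyOfFiniteType f] (x : X) :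
    (f.residueFieldMap x).hom.EssFiniteType :=
  RingHom.EssFiniteType.residueFieldMap (LocallyOfFiniteType.stalkMap f x)

/-- algebraic + essentially of finite type field extension is finite -/
theorem finite_of_essFiniteType_of_isAlgebraic {K L : Type*} [Field K] [Field L] (φ : K →+* L)
    (h1 : φ.EssFiniteType) (h2 : φ.IsIntegral) : φ.Finite := by
  algebraize [φ]
  have : Algebra.IsIntegral K L := ⟨h2⟩
  obtain ⟨s, hs⟩ := IntermediateField.fg_top K L
  have hfd : FiniteDimensional K (IntermediateField.adjoin K (s : Set L)) :=
    IntermediateField.finiteDimensional_adjoin (fun x _ => Algebra.IsIntegral.isIntegral x)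
  rw [hs] at hfd
  have : Module.Finite K L := by
    have e := (IntermediateField.topEquiv (F := K) (E := L))
    exact Module.Finite.equiv e.toLinearEquiv
  exact RingHom.finite_algebraMap.mpr this

/-- S1862 core -/
theorem generic_finite [IsIntegral X] [IsIntegral Y] (δX : X → ℤ) (δY : Y → ℤ) (f : X ⟶ Y)
    [LocallyOfFiniteType f] (hδ : Cyc.DeltaCompat f δX δY)
    (heq : δX (genericPoint X) = δY (genericPoint Y)) (hd : Dense (Set.range f)) :
    f (genericPoint X) = genericPoint Y ∧ (f.residueFieldMap (genericPoint X)).hom.Finite := by
  have hgen := map_genericPoint_of_dense f hd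
  refine ⟨hgen, ?_⟩
  obtain ⟨n, hn, hdel⟩ := hδ (genericPoint X)
  rw [hgen, heq] at hdel
  have hn0 : n = 0 := by omega
  subst hn0
  refine finite_of_essFiniteType_of_isAlgebraic _ (essFiniteType_residueFieldMap f _) ?_
  letI := (f.residueFieldMap (genericPoint X)).hom.toAlgebra
  have halg : Algebra.IsAlgebraic (Y.residueField (f (genericPoint X))) (X.residueField (genericPoint X)) := by
    rw [← _root_.trdeg_eq_zero_iff]
    simpa using hn
  have : Algebra.IsIntegral (Y.residueField (f (genericPoint X))) (X.residueField (genericPoint X)) :=
    inferInstance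
  exact this.isIntegral

end Groth.Agent.Lib.Helper18.GenFin
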