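import Mathlib
import Groth.Prelude.Def_Curv2
import Groth.Agent.Lib.Helper22.GalPrimes

set_option autoImplicit false
set_option linter.style.haveILetI false
universe u
open CategoryTheory CategoryTheory.Limits AlgebraicGeometry TensorProduct

namespace Groth.Agent.Lib.Helper18.GalFibre

variable {k : Type u} [Field k] {K : Type u} [Field K] [Algebra k K]

/-- The structure map `Spec K ⟶ Spec k`. -/
noncomputable abbrev sK (k : Type u) [Field k] (K : Type u) [Field K] [Algebra k K] :
    Spec (CommRingCat.of K) ⟶ Spec (CommRingCat.of k) :=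
  Spec.map (CommRingCat.ofHom (algebraMap k K))

/-- `Spec σ` for a `k`-automorphism `σ` of `K`. -/
noncomputable abbrev specσ (σ : K ≃ₐ[k] K) : Spec (CommRingCat.of K) ⟶ Spec (CommRingCat.of K) :=
  Spec.map (CommRingCat.ofHom (σ : K →ₐ[k] K).toRingHom)

lemma specσ_sK (σ : K ≃ₐ[k] K) : specσ σ ≫ sK k K = sK k K := by
  rw [← Spec.map_comp, ← CommRingCat.ofHom_comp, AlgHom.toRingHom_eq_coe, AlgHom.comp_algebraMap]

/-- The Galois action on a base change along an explicit structure morphism. -/
noncomputable def actOf {X : Scheme.{u}} (f : X ⟶ Spec (CommRingCat.of k)) (σ : K ≃ₐ[k] K) :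
    pullback f (sK k K) ⟶ pullback f (sK k K) :=
  pullback.map _ _ _ _ (𝟙 X) (specσ σ) (𝟙 _) (by simp) (by rw [Category.comp_id, specσ_sK])

@[reassoc (attr := simp)]
lemma actOf_fst {X : Scheme.{u}} (f : X ⟶ Spec (CommRingCat.of k)) (σ : K ≃ₐ[k] K) :
    actOf f σ ≫ pullback.fst f (sK k K) = pullback.fst f (sK k K) := by
  unfold actOf pullback.map
  rw [pullback.lift_fst, Category.comp_id]

@[reassoc (attr := simp)]
lemma actOf_snd {X : Scheme.{u}} (f : X ⟶ Spec (CommRingCat.of k)) (σ : K ≃ₐ[k] K) :
    actOf f σ ≫ pullback.snd f (sK k K) = pullback.snd f (sK k K) ≫ specσ σ := by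
  unfold actOf pullback.map
  rw [pullback.lift_snd]

lemma galAct_eq (X : Scheme.{u}) [X.Over (Spec (CommRingCat.of k))] (σ : K ≃ₐ[k] K) :
    Curv2.galAct k X K σ = actOf (X ↘ Spec (CommRingCat.of k)) σ := rfl

/-- The map on base changes induced by a morphism. -/
noncomputable def mapOf {Y X : Scheme.{u}} (j : Y ⟶ X) (f : X ⟶ Spec (CommRingCat.of k)) :
    pullback (j ≫ f) (sK k K) ⟶ pullback f (sK k K) :=
  pullback.lift (pullback.fst _ _ ≫ j) (pullback.snd _ _)
    (by rw [Category.assoc]; exact pullback.condition)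

@[reassoc (attr := simp)]
lemma mapOf_fst {Y X : Scheme.{u}} (j : Y ⟶ X) (f : X ⟶ Spec (CommRingCat.of k)) :
    mapOf (K := K) j f ≫ pullback.fst f (sK k K) = pullback.fst (j ≫ f) (sK k K) ≫ j :=
  pullback.lift_fst _ _ _

@[reassoc (attr := simp)]
lemma mapOf_snd {Y X : Scheme.{u}} (j : Y ⟶ X) (f : X ⟶ Spec (CommRingCat.of k)) :
    mapOf (K := K) j f ≫ pullback.snd f (sK k K) = pullback.snd (j ≫ f) (sK k K) :=
  pullback.lift_snd _ _ _

lemma mapOf_actOf {Y X : Scheme.{u}} (j : Y ⟶ X) (f : X ⟶ Spec (CommRingCat.of k)) (σ : K ≃ₐ[k] K) :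
    mapOf j f ≫ actOf f σ = actOf (j ≫ f) σ ≫ mapOf j f := by
  apply pullback.hom_ext <;> simp

lemma isPullback_mapOf {Y X : Scheme.{u}} (j : Y ⟶ X) (f : X ⟶ Spec (CommRingCat.of k)) :
    IsPullback (mapOf (K := K) j f) (pullback.fst (j ≫ f) (sK k K)) (pullback.fst f (sK k K)) j := by
  have hbig : IsPullback (pullback.fst (j ≫ f) (sK k K)) (pullback.snd (j ≫ f) (sK k K)) (j ≫ f) (sK k K) :=
    IsPullback.of_hasPullback _ _
  have hsmall : IsPullback (pullback.fst f (sK k K)) (pullback.snd f (sK k K)) f (sK k K) :=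
    IsPullback.of_hasPullback _ _
  refine IsPullback.of_right ?_ (mapOf_fst j f) hsmall.flip
  rw [mapOf_snd]
  exact hbig.flip

section field

variable {F : Type u} [Field F] [Algebra k F]

/-- The action on `Spec (F ⊗ K)` corresponding to `actOf`. -/
lemma pullbackSpecIso_inv_actOf (σ : K ≃ₐ[k] K) :
    (pullbackSpecIso k F K).inv ≫ actOf (Spec.map (CommRingCat.ofHom (algebraMap k F))) σ =
      Spec.map (CommRingCat.ofHom
        (Algebra.TensorProduct.map (AlgHom.id k F) (σ : K →ₐ[k] K)).toRingHom) ≫
        (pullbackSpecIso k F K).inv := by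
  apply pullback.hom_ext
  · rw [Category.assoc, actOf_fst, Category.assoc, pullbackSpecIso_inv_fst, ← Spec.map_comp,
      ← CommRingCat.ofHom_comp]
    congr 2
    ext x
    simp
  · rw [Category.assoc, actOf_snd, Category.assoc, pullbackSpecIso_inv_snd,
      pullbackSpecIso_inv_snd_assoc, ← Spec.map_comp, ← Spec.map_comp, ← CommRingCat.ofHom_comp,
      ← CommRingCat.ofHom_comp]
    congr 2

/-- Transitivity of the Galois action on the base change of `Spec F` (algebra form). -/
lemma exists_actOf_eq_of_algebra [Normal k K]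
    (s s' : ↥(pullback (Spec.map (CommRingCat.ofHom (algebraMap k F))) (sK k K))) :
    ∃ σ : K ≃ₐ[k] K, (actOf (Spec.map (CommRingCat.ofHom (algebraMap k F))) σ).base s = s' := by
  let e := pullbackSpecIso k F K
  let P : PrimeSpectrum (F ⊗[k] K) := e.hom.base s
  let Q : PrimeSpectrum (F ⊗[k] K) := e.hom.base s'
  obtain ⟨γ, hγ⟩ := Groth.Agent.Lib.Helper22.GalPrimes.exists_algEquiv_comap_eq_right
    (K := k) (F := F) (L := K) P.asIdeal Q.asIdeal
  refine ⟨γ, ?_⟩
  have h1 : (Spec.map (CommRingCat.ofHom
      (Algebra.TensorProduct.map (AlgHom.id k F) (γ : K →ₐ[k] K)).toRingHom)).base (e.hom.base s)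
      = e.hom.base s' := by
    apply PrimeSpectrum.ext
    exact hγ.symm
  have h2 : s = e.inv.base (e.hom.base s) := by
    rw [← Scheme.Hom.comp_apply, e.hom_inv_id]; rfl
  have h3 : s' = e.inv.base (e.hom.base s') := by
    rw [← Scheme.Hom.comp_apply, e.hom_inv_id]; rfl
  rw [h2, ← Scheme.Hom.comp_apply, pullbackSpecIso_inv_actOf, Scheme.Hom.comp_apply, h1, ← h3]

end field

/-- Transitivity of the Galois action on the base change of the spectrum of a field. -/
lemma exists_actOf_eq_of_field [Normal k K] (F : Type u) [Field F]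
    (f₀ : Spec (CommRingCat.of F) ⟶ Spec (CommRingCat.of k))
    (s s' : ↥(pullback f₀ (sK k K))) :
    ∃ σ : K ≃ₐ[k] K, (actOf f₀ σ).base s = s' := by
  obtain ⟨φ, rfl⟩ : ∃ φ, Spec.map φ = f₀ := ⟨_, Spec.map_preimage _⟩
  letI : Algebra k F := φ.hom.toAlgebra
  exact exists_actOf_eq_of_algebra (F := F) s s'

/-- **Lemma G**: for a normal extension `K/k`, the group of `k`-automorphisms of `K` acts
transitively on each fibre of `X_K ⟶ X`. -/
theorem exists_actOf_eq [Normal k K] {X : Scheme.{u}} (f : X ⟶ Spec (CommRingCat.of k))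
    (t t' : ↥(pullback f (sK k K)))
    (h : (pullback.fst f (sK k K)).base t = (pullback.fst f (sK k K)).base t') :
    ∃ σ : K ≃ₐ[k] K, (actOf f σ).base t = t' := by
  set x := (pullback.fst f (sK k K)).base t with hx
  let j := X.fromSpecResidueField x
  let pt : ↥(Spec (X.residueField x)) := IsLocalRing.closedPoint _
  have hj : j.base pt = x := Scheme.fromSpecResidueField_apply x pt
  obtain ⟨s, hs, -⟩ := Scheme.exists_preimage_of_isPullback
    (isPullback_mapOf (K := K) j f) t pt (by rw [hj])
  obtain ⟨s', hs', -⟩ := Scheme.exists_preimage_of_isPullback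
    (isPullback_mapOf (K := K) j f) t' pt (by rw [hj, h])
  obtain ⟨σ, hσ⟩ := exists_actOf_eq_of_field (K := K) (X.residueField x) (j ≫ f) s s'
  refine ⟨σ, ?_⟩
  rw [← hs, ← Scheme.Hom.comp_apply, mapOf_actOf, Scheme.Hom.comp_apply, hσ, hs']

/-- Finiteness of the base change of the spectrum of a finitely generated field extension along
an algebraic extension. -/
lemma finite_of_field [Algebra.IsAlgebraic k K] (F : Type u) [Field F]
    (f₀ : Spec (CommRingCat.of F) ⟶ Spec (CommRingCat.of k))
    (h : (Spec.preimage f₀).hom.EssFiniteType) :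
    Finite ↥(pullback f₀ (sK k K)) := by
  obtain ⟨φ, rfl⟩ : ∃ φ, Spec.map φ = f₀ := ⟨_, Spec.map_preimage _⟩
  have hφ : φ.hom.EssFiniteType := by
    have : Spec.preimage (Spec.map φ) = φ := Spec.map_injective (Spec.map_preimage _)
    rwa [this] at h
  letI : Algebra k F := φ.hom.toAlgebra
  haveI : Algebra.EssFiniteType k F := hφ
  haveI : Finite (PrimeSpectrum (F ⊗[k] K)) :=
    Groth.Agent.Lib.Helper22.GalPrimes.finite_primeSpectrum_tensor
      (IntermediateField.fg_top_iff.mpr inferInstance)
  let e := pullbackSpecIso k F K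
  have hinj : Function.Injective e.hom.base := by
    intro a b hab
    have := congrArg e.inv.base hab
    simpa [← Scheme.Hom.comp_apply] using this
  exact Finite.of_injective (β := PrimeSpectrum (F ⊗[k] K)) e.hom.base hinj

/-- The residue field of a point of a scheme locally of finite type over `k` is essentially of
finite type over `k`. -/
lemma essFiniteType_preimage {X : Scheme.{u}} (f : X ⟶ Spec (CommRingCat.of k))
    [LocallyOfFiniteType f] (x : X) :
    (Spec.preimage (X.fromSpecResidueField x ≫ f)).hom.EssFiniteType := by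
  have key : Spec.preimage (X.fromSpecResidueField x ≫ f) =
      (CommRingCat.ofHom (algebraMap k (f.base x).asIdeal.ResidueField) ≫
        (Scheme.Spec.residueFieldIso (CommRingCat.of k) (f.base x)).inv) ≫ f.residueFieldMap x := by
    apply Spec.map_injective
    rw [Spec.map_preimage, Spec.map_comp, Spec.map_comp,
      Scheme.Spec.map_residueFieldIso_inv_eq_fromSpecResidueField,
      Scheme.Hom.SpecMap_residueFieldMap_fromSpecResidueField]
  rw [key]
  have h1 : (f.residueFieldMap x).hom.EssFiniteType :=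
    RingHom.EssFiniteType.residueFieldMap (LocallyOfFiniteType.stalkMap f x)
  have h2 : (algebraMap k (f.base x).asIdeal.ResidueField).EssFiniteType := by
    rw [RingHom.essFiniteType_algebraMap]
    infer_instance
  have h3 : (Scheme.Spec.residueFieldIso (CommRingCat.of k) (f.base x)).inv.hom.EssFiniteType := by
    apply RingHom.FiniteType.essFiniteType
    apply RingHom.FiniteType.of_surjective
    exact ((Scheme.Spec.residueFieldIso (CommRingCat.of k)
      (f.base x)).symm.commRingCatIsoToRingEquiv).surjective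
  exact (h2.comp h3).comp h1

/-- The fibres of `X_K ⟶ X` are finite when `X` is locally of finite type over `k` and `K/k` is
algebraic. -/
theorem finite_fibre [Algebra.IsAlgebraic k K] {X : Scheme.{u}} (f : X ⟶ Spec (CommRingCat.of k))
    [LocallyOfFiniteType f] (x : X) :
    ((pullback.fst f (sK k K)).base ⁻¹' {x}).Finite := by
  let j := X.fromSpecResidueField x
  let pt : ↥(Spec (X.residueField x)) := IsLocalRing.closedPoint _
  have hj : j.base pt = x := Scheme.fromSpecResidueField_apply x pt
  haveI : Finite ↥(pullback (j ≫ f) (sK k K)) :=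
    finite_of_field (K := K) (X.residueField x) (j ≫ f) (essFiniteType_preimage f x)
  refine (Set.finite_range (mapOf (K := K) j f).base).subset ?_
  intro t ht
  obtain ⟨s, hs, -⟩ := Scheme.exists_preimage_of_isPullback
    (isPullback_mapOf (K := K) j f) t pt (by rw [hj]; exact ht)
  exact ⟨s, hs⟩

section group

variable {X : Scheme.{u}} (f : X ⟶ Spec (CommRingCat.of k))

lemma specσ_one : specσ (1 : K ≃ₐ[k] K) = 𝟙 _ := by
  rw [← Spec.map_id]
  rfl

lemma specσ_mul (σ τ : K ≃ₐ[k] K) : specσ σ ≫ specσ τ = specσ (σ * τ) := by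
  rw [← Spec.map_comp, ← CommRingCat.ofHom_comp]
  rfl

lemma actOf_one : actOf f (1 : K ≃ₐ[k] K) = 𝟙 _ := by
  apply pullback.hom_ext
  · simp
  · rw [actOf_snd, specσ_one]; simp

lemma actOf_mul (σ τ : K ≃ₐ[k] K) : actOf f σ ≫ actOf f τ = actOf f (σ * τ) := by
  apply pullback.hom_ext
  · simp
  · rw [Category.assoc, actOf_snd, actOf_snd_assoc, actOf_snd, specσ_mul]

lemma actOf_inv_apply (σ : K ≃ₐ[k] K) (t : ↥(pullback f (sK k K))) :
    (actOf f σ⁻¹).base ((actOf f σ).base t) = t := by
  rw [← Scheme.Hom.comp_apply, actOf_mul, mul_inv_cancel, actOf_one]; rfl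

lemma actOf_apply_inv (σ : K ≃ₐ[k] K) (t : ↥(pullback f (sK k K))) :
    (actOf f σ).base ((actOf f σ⁻¹).base t) = t := by
  rw [← Scheme.Hom.comp_apply, actOf_mul, inv_mul_cancel, actOf_one]; rfl

/-- The action of `σ` as a homeomorphism of `X_K`. -/
noncomputable def actHomeo (σ : K ≃ₐ[k] K) : ↥(pullback f (sK k K)) ≃ₜ ↥(pullback f (sK k K)) where
  toFun := (actOf f σ).base
  invFun := (actOf f σ⁻¹).base
  left_inv := actOf_inv_apply f σ
  right_inv := actOf_apply_inv f σ
  continuous_toFun := (actOf f σ).continuous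
  continuous_invFun := (actOf f σ⁻¹).continuous

@[simp] lemma actHomeo_apply (σ : K ≃ₐ[k] K) (t : ↥(pullback f (sK k K))) :
    actHomeo f σ t = (actOf f σ).base t := rfl

lemma fst_actOf_apply (σ : K ≃ₐ[k] K) (t : ↥(pullback f (sK k K))) :
    (pullback.fst f (sK k K)).base ((actOf f σ).base t) = (pullback.fst f (sK k K)).base t := by
  rw [← Scheme.Hom.comp_apply, actOf_fst]

end group

section top

lemma image_mem_irreducibleComponents {α β : Type*} [TopologicalSpace α] [TopologicalSpace β]
    (e : α ≃ₜ β) {s : Set α} (hs : s ∈ irreducibleComponents α) :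
    e '' s ∈ irreducibleComponents β := by
  refine ⟨hs.1.image e e.continuous.continuousOn, ?_⟩
  intro t ht hst
  have h1 : IsIrreducible (e.symm '' t) := ht.image e.symm e.symm.continuous.continuousOn
  have h2 : s ⊆ e.symm '' t := by
    intro a ha
    exact ⟨e a, hst ⟨a, ha, rfl⟩, e.symm_apply_apply a⟩
  have h3 : e.symm '' t ⊆ s := hs.2 h1 h2
  intro b hb
  exact ⟨e.symm b, h3 ⟨b, hb, rfl⟩, e.apply_symm_apply b⟩

end top

section components

variable {X : Scheme.{u}} (f : X ⟶ Spec (CommRingCat.of k))

/-- image of an irreducible component under the Galois action is an irreducible component. -/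
lemma actOf_image_mem_irreducibleComponents (σ : K ≃ₐ[k] K) {Z : Set ↥(pullback f (sK k K))}
    (hZ : Z ∈ irreducibleComponents ↥(pullback f (sK k K))) :
    (actOf f σ).base '' Z ∈ irreducibleComponents ↥(pullback f (sK k K)) :=
  image_mem_irreducibleComponents (actHomeo f σ) hZ

/-- Two irreducible components with a common image point under `X_K ⟶ X`, one of them through
the generic point: conjugate. -/
lemma exists_actOf_image_eq [Normal k K] {Z' Z'' : Set ↥(pullback f (sK k K))}
    (hZ' : Z' ∈ irreducibleComponents ↥(pullback f (sK k K)))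
    (hZ'' : Z'' ∈ irreducibleComponents ↥(pullback f (sK k K)))
    (h : ∀ ξ, IsGenericPoint ξ Z'' →
      ∃ z ∈ Z', (pullback.fst f (sK k K)).base z = (pullback.fst f (sK k K)).base ξ) :
    ∃ σ : K ≃ₐ[k] K, (actOf f σ).base '' Z' = Z'' := by
  have hirr'' : IsIrreducible Z'' := hZ''.1
  have hcl'' : IsClosed Z'' := isClosed_of_mem_irreducibleComponents _ hZ''
  have hcl' : IsClosed Z' := isClosed_of_mem_irreducibleComponents _ hZ'
  obtain ⟨ξ, hξ⟩ := QuasiSober.sober hirr'' hcl''
  obtain ⟨z, hz, hzξ⟩ := h ξ hξ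
  obtain ⟨σ, hσ⟩ := exists_actOf_eq f z ξ hzξ
  refine ⟨σ, ?_⟩
  have himg := actOf_image_mem_irreducibleComponents f σ hZ'
  have hclimg : IsClosed ((actOf f σ).base '' Z') := isClosed_of_mem_irreducibleComponents _ himg
  have hsub : Z'' ⊆ (actOf f σ).base '' Z' := by
    rw [← hξ.def]
    exact closure_minimal (Set.singleton_subset_iff.mpr ⟨z, hz, hσ⟩) hclimg
  exact Set.Subset.antisymm (hZ''.2 himg.1 hsub) hsub

instance flat_sK : Flat (sK k K) := by
  rw [HasRingHomProperty.Spec_iff (P := @Flat)]
  simp only [CommRingCat.hom_ofHom]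
  rw [RingHom.flat_algebraMap_iff]
  infer_instance

lemma generalizingMap_fst : GeneralizingMap (pullback.fst f (sK k K)).base :=
  Flat.generalizingMap _

/-- A generalization of the generic point of an irreducible component is that generic point. -/
lemma eq_of_specializes_generic {α : Type*} [TopologicalSpace α] [T0Space α] {Z : Set α}
    (hZ : Z ∈ irreducibleComponents α) {ξ ζ : α} (hξ : IsGenericPoint ξ Z) (hζ : ζ ⤳ ξ) : ζ = ξ := by
  have h2 : IsIrreducible (closure {ζ}) := isIrreducible_singleton.closure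
  have h3 : Z ⊆ closure {ζ} := by
    rw [← hξ.def]
    exact closure_minimal (Set.singleton_subset_iff.mpr hζ.mem_closure) isClosed_closure
  have h4 : closure {ζ} ⊆ Z := hZ.2 h2 h3
  have h5 : ξ ⤳ ζ := by
    rw [specializes_iff_mem_closure, hξ.def]
    exact h4 (subset_closure rfl)
  exact (hζ.antisymm h5).eq

/-- A Galois-invariant subset is the full preimage of its image. -/
lemma preimage_image_eq_of_invariant [Normal k K] (Z : Set ↥(pullback f (sK k K)))
    (hinv : ∀ σ : K ≃ₐ[k] K, (actOf f σ).base '' Z = Z) :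
    (pullback.fst f (sK k K)).base ⁻¹' ((pullback.fst f (sK k K)).base '' Z) = Z := by
  apply Set.Subset.antisymm
  · rintro t ⟨t₀, ht₀, h⟩
    obtain ⟨σ, hσ⟩ := exists_actOf_eq f t₀ t h
    rw [← hinv σ]
    exact ⟨t₀, ht₀, hσ⟩
  · exact Set.subset_preimage_image _ _

/-- A full preimage is Galois-invariant. -/
lemma actOf_image_preimage (σ : K ≃ₐ[k] K) (T : Set X) :
    (actOf f σ).base '' ((pullback.fst f (sK k K)).base ⁻¹' T) =
      (pullback.fst f (sK k K)).base ⁻¹' T := by
  apply Set.Subset.antisymm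
  · rintro _ ⟨t, ht, rfl⟩
    show (pullback.fst f (sK k K)).base ((actOf f σ).base t) ∈ T
    rw [fst_actOf_apply]; exact ht
  · intro t ht
    refine ⟨(actOf f σ⁻¹).base t, ?_, actOf_apply_inv f σ t⟩
    show (pullback.fst f (sK k K)).base ((actOf f σ⁻¹).base t) ∈ T
    rw [fst_actOf_apply]; exact ht

/-- The image in `X` of a Galois-invariant irreducible component of `X_K` (`K/k` algebraic) is an
irreducible component of `X`. -/
lemma image_mem_irreducibleComponents_of_component [Algebra.IsAlgebraic k K]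
    {Z : Set ↥(pullback f (sK k K))}
    (hZ : Z ∈ irreducibleComponents ↥(pullback f (sK k K))) :
    (pullback.fst f (sK k K)).base '' Z ∈ irreducibleComponents X := by
  haveI : IsIntegralHom (sK k K) := by
    rw [IsIntegralHom.SpecMap_iff]
    exact algebraMap_isIntegral_iff.mpr inferInstance
  have hclosed : IsClosedMap (pullback.fst f (sK k K)).base := (pullback.fst f (sK k K)).isClosedMap
  have hZcl : IsClosed Z := isClosed_of_mem_irreducibleComponents _ hZ
  have hTcl := hclosed _ hZcl
  obtain ⟨ξ, hξ⟩ := QuasiSober.sober hZ.1 hZcl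
  refine ⟨hZ.1.image _ (pullback.fst f (sK k K)).continuous.continuousOn, ?_⟩
  intro T₁ hT₁ hsub
  obtain ⟨η₁, hη₁⟩ := QuasiSober.sober hT₁.closure isClosed_closure
  have h1 : η₁ ⤳ (pullback.fst f (sK k K)).base ξ := by
    rw [specializes_iff_mem_closure, hη₁.def]
    exact subset_closure (hsub ⟨ξ, hξ.mem, rfl⟩)
  obtain ⟨ζ, hζ, hζη⟩ := generalizingMap_fst (K := K) f h1
  have h2 : ζ = ξ := eq_of_specializes_generic hZ hξ hζ
  have h3 : η₁ ∈ (pullback.fst f (sK k K)).base '' Z := ⟨ξ, hξ.mem, by rw [← hζη, h2]⟩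
  have h4 : closure T₁ ⊆ (pullback.fst f (sK k K)).base '' Z := by
    rw [← hη₁.def]
    exact closure_minimal (Set.singleton_subset_iff.mpr h3) hTcl
  exact subset_closure.trans h4

/-- **Lemma C**: the generic point of an irreducible component of `X_K` lying over an irreducible
component `T` of `X` maps to the generic point of `T`. -/
lemma fst_generic_eq {T : Set X} (hT : T ∈ irreducibleComponents X) {η : X}
    (hη : IsGenericPoint η T) {T' : Set ↥(pullback f (sK k K))}
    (hT' : T' ∈ irreducibleComponents ↥(pullback f (sK k K))) {ξ' : ↥(pullback f (sK k K))}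
    (hξ' : IsGenericPoint ξ' T') (hmem : (pullback.fst f (sK k K)).base ξ' ∈ T) :
    (pullback.fst f (sK k K)).base ξ' = η := by
  have h1 : η ⤳ (pullback.fst f (sK k K)).base ξ' := by
    rw [specializes_iff_mem_closure, hη.def]; exact hmem
  obtain ⟨ζ, hζ, hζη⟩ := generalizingMap_fst (K := K) f h1
  have h2 : IsIrreducible (closure {ζ}) := isIrreducible_singleton.closure
  have h3 : T' ⊆ closure {ζ} := by
    rw [← hξ'.def]
    exact closure_minimal (Set.singleton_subset_iff.mpr hζ.mem_closure) isClosed_closure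
  have h4 : closure {ζ} ⊆ T' := hT'.2 h2 h3
  have h5 : ξ' ⤳ ζ := by
    rw [specializes_iff_mem_closure, hξ'.def]
    exact h4 (subset_closure rfl)
  have : ζ = ξ' := (hζ.antisymm h5).eq
  rw [← this, hζη]

/-- Every point of `X_K` over `T` lies in an irreducible component of `X_K` mapping into `T`. -/
lemma exists_component_of_mem {T : Set X} (hT : T ∈ irreducibleComponents X)
    (t : ↥(pullback f (sK k K))) (ht : (pullback.fst f (sK k K)).base t ∈ T) :
    ∃ T' ∈ irreducibleComponents ↥(pullback f (sK k K)),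
      t ∈ T' ∧ (pullback.fst f (sK k K)).base '' T' ⊆ T := by
  have hTcl : IsClosed T := isClosed_of_mem_irreducibleComponents _ hT
  obtain ⟨η, hη⟩ := QuasiSober.sober hT.1 hTcl
  have h1 : η ⤳ (pullback.fst f (sK k K)).base t := by
    rw [specializes_iff_mem_closure, hη.def]; exact ht
  obtain ⟨ζ, hζ, hζη⟩ := generalizingMap_fst (K := K) f h1
  refine ⟨irreducibleComponent ζ, irreducibleComponent_mem_irreducibleComponents ζ, ?_, ?_⟩
  · exact hζ.mem_closed isClosed_irreducibleComponent mem_irreducibleComponent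
  · have hT'cl : IsClosed (irreducibleComponent ζ) := isClosed_irreducibleComponent
    obtain ⟨ξ', hξ'⟩ := QuasiSober.sober (isIrreducible_irreducibleComponent (x := ζ)) hT'cl
    have h2 : ξ' ⤳ ζ := by
      rw [specializes_iff_mem_closure, hξ'.def]; exact mem_irreducibleComponent
    have h3 : (pullback.fst f (sK k K)).base ξ' ⤳ η := by
      have := h2.map (pullback.fst f (sK k K)).continuous
      rwa [hζη] at this
    have h4 : IsIrreducible (closure {(pullback.fst f (sK k K)).base ξ'}) :=
      isIrreducible_singleton.closure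
    have h5 : T ⊆ closure {(pullback.fst f (sK k K)).base ξ'} := by
      rw [← hη.def]
      exact closure_minimal (Set.singleton_subset_iff.mpr h3.mem_closure) isClosed_closure
    have h6 : closure {(pullback.fst f (sK k K)).base ξ'} ⊆ T := hT.2 h4 h5
    have h7 : (pullback.fst f (sK k K)).base ξ' ∈ T := h6 (subset_closure rfl)
    rw [← hξ'.def]
    refine (image_closure_subset_closure_image (pullback.fst f (sK k K)).continuous).trans ?_
    rw [Set.image_singleton]
    exact h6

end components

end Groth.Agent.Lib.Helper18.GalFibre
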