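import Mathlib
import Groth.Agent.Lib.Helper18.GalFibre

/-!
# Finite Galois descent of morphisms (helper18)

For `K/k` finite Galois and a `k`-scheme `X`, a morphism `X_K ⟶ Y` invariant under the Galois action
descends uniquely to `X ⟶ Y` (`exists_desc`). Uses Mathlib's fpqc effective epimorphisms and the
decomposition of `Spec K ×_k Spec K` into the graphs of the automorphisms.
-/

set_option autoImplicit false
set_option linter.style.haveILetI false
universe u
open CategoryTheory CategoryTheory.Limits AlgebraicGeometry TensorProduct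

namespace Groth.Agent.Lib.Helper18.GalFibre

variable {k : Type u} [Field k] {K : Type u} [Field K] [Algebra k K]

/-- The graph of `σ` as a section of `Spec K ×_k Spec K ⟶ Spec K`. -/
noncomputable def jσ (σ : K ≃ₐ[k] K) :
    Spec (CommRingCat.of K) ⟶ pullback (sK k K) (sK k K) :=
  pullback.lift (𝟙 _) (specσ σ) (by rw [Category.id_comp, specσ_sK])

@[reassoc (attr := simp)]
lemma jσ_fst (σ : K ≃ₐ[k] K) : jσ σ ≫ pullback.fst (sK k K) (sK k K) = 𝟙 _ :=
  pullback.lift_fst _ _ _

@[reassoc (attr := simp)]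
lemma jσ_snd (σ : K ≃ₐ[k] K) : jσ σ ≫ pullback.snd (sK k K) (sK k K) = specσ σ :=
  pullback.lift_snd _ _ _

lemma jσ_one_actOf (σ : K ≃ₐ[k] K) : jσ (1 : K ≃ₐ[k] K) ≫ actOf (sK k K) σ = jσ σ := by
  apply pullback.hom_ext
  · simp
  · rw [Category.assoc, actOf_snd, jσ_snd_assoc, jσ_snd, specσ_one, Category.id_comp]

instance surjective_sK : Surjective (sK k K) := by
  haveI : Subsingleton ↥(Spec (CommRingCat.of k)) :=
    inferInstanceAs (Subsingleton (PrimeSpectrum k))
  constructor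
  intro x
  exact ⟨(⊥ : PrimeSpectrum K), Subsingleton.elim _ _⟩

instance etale_sK [FiniteDimensional k K] [Algebra.IsSeparable k K] : Etale (sK k K) := by
  rw [HasRingHomProperty.Spec_iff (P := @Etale)]
  simp only [CommRingCat.hom_ofHom]
  rw [RingHom.etale_algebraMap]
  exact { formallyEtale := Algebra.FormallyEtale.of_isSeparable k K
          finitePresentation := Algebra.FinitePresentation.of_finiteType.mp inferInstance }

instance isOpenImmersion_jσ [FiniteDimensional k K] [Algebra.IsSeparable k K] (σ : K ≃ₐ[k] K) :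
    IsOpenImmersion (jσ σ) := by
  haveI : Etale (jσ σ ≫ pullback.fst (sK k K) (sK k K)) := by
    rw [jσ_fst]; infer_instance
  haveI : Etale (jσ σ) := Etale.of_comp (jσ σ) (pullback.fst (sK k K) (sK k K))
  haveI : Mono (jσ σ) := mono_of_mono_fac (jσ_fst σ)
  exact IsOpenImmersion.of_flat_of_mono _

lemma exists_mem_range_jσ [Normal k K] (w : ↥(pullback (sK k K) (sK k K))) :
    ∃ σ : K ≃ₐ[k] K, w ∈ Set.range (jσ σ).base := by
  haveI : Subsingleton ↥(Spec (CommRingCat.of K)) :=
    inferInstanceAs (Subsingleton (PrimeSpectrum K))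
  let pt : ↥(Spec (CommRingCat.of K)) := (⊥ : PrimeSpectrum K)
  obtain ⟨σ, hσ⟩ := exists_actOf_eq (sK k K) ((jσ (1 : K ≃ₐ[k] K)).base pt) w
    (Subsingleton.elim _ _)
  refine ⟨σ, pt, ?_⟩
  rw [← jσ_one_actOf, Scheme.Hom.comp_apply]
  exact hσ

/-- **Finite Galois descent for morphisms**: a Galois-invariant morphism from `X_K` descends
to `X`. -/
theorem exists_desc [FiniteDimensional k K] [IsGalois k K] {X Y : Scheme.{u}}
    (f : X ⟶ Spec (CommRingCat.of k)) (h : pullback f (sK k K) ⟶ Y)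
    (hinv : ∀ σ : K ≃ₐ[k] K, actOf f σ ≫ h = h) :
    ∃ u : X ⟶ Y, pullback.fst f (sK k K) ≫ u = h := by
  haveI : QuasiCompact (sK k K) := inferInstance
  suffices H : ∀ {Z : Scheme.{u}} (g₁ g₂ : Z ⟶ pullback f (sK k K)),
      g₁ ≫ pullback.fst f (sK k K) = g₂ ≫ pullback.fst f (sK k K) → g₁ ≫ h = g₂ ≫ h from
    ⟨EffectiveEpi.desc (pullback.fst f (sK k K)) h H, EffectiveEpi.fac _ _ _⟩
  intro Z g₁ g₂ hg
  let a : Z ⟶ pullback (sK k K) (sK k K) :=
    pullback.lift (g₁ ≫ pullback.snd _ _) (g₂ ≫ pullback.snd _ _) (by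
      rw [Category.assoc, Category.assoc, ← pullback.condition,
        ← Category.assoc, ← Category.assoc, hg])
  have ha1 : a ≫ pullback.fst _ _ = g₁ ≫ pullback.snd _ _ := pullback.lift_fst _ _ _
  have ha2 : a ≫ pullback.snd _ _ = g₂ ≫ pullback.snd _ _ := pullback.lift_snd _ _ _
  apply Scheme.hom_ext_of_forall
  intro z
  obtain ⟨σ, hσ⟩ := exists_mem_range_jσ (a.base z)
  let U : Z.Opens := a ⁻¹ᵁ (jσ σ).opensRange
  refine ⟨U, hσ, ?_⟩
  have hrange : Set.range (U.ι ≫ a).base ⊆ Set.range (jσ σ).base := by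
    rintro _ ⟨y, rfl⟩
    rw [Scheme.Hom.comp_apply]
    exact y.2
  let b : (U : Scheme) ⟶ Spec (CommRingCat.of K) := IsOpenImmersion.lift (jσ σ) (U.ι ≫ a) hrange
  have hb : b ≫ jσ σ = U.ι ≫ a := IsOpenImmersion.lift_fac _ _ _
  have h1 : U.ι ≫ g₁ ≫ pullback.snd _ _ = b := by
    rw [← ha1, ← Category.assoc, ← hb, Category.assoc, jσ_fst, Category.comp_id]
  have h2 : U.ι ≫ g₂ ≫ pullback.snd _ _ = b ≫ specσ σ := by
    rw [← ha2, ← Category.assoc, ← hb, Category.assoc, jσ_snd]
  have h3 : U.ι ≫ g₂ = (U.ι ≫ g₁) ≫ actOf f σ := by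
    apply pullback.hom_ext
    · rw [Category.assoc, Category.assoc, actOf_fst, Category.assoc, hg]
    · simp only [Category.assoc, actOf_snd]
      rw [h2, ← h1]
      simp only [Category.assoc]
  rw [← Category.assoc U.ι g₂, h3]
  simp only [Category.assoc, hinv]

end Groth.Agent.Lib.Helper18.GalFibre
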