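import Mathlib
import Groth.Prelude.Def_FDesc
import Groth.Agent.Lib.Helper22.SchGeomConn4
import Groth.Agent.Lib.Helper18.GeomIrrGen

/-!
# Connectedness of `X_Ω` for an algebraic extension `Ω/k` from the finite subextensions

If `X_K` is connected for every finite subextension `K ⊆ Ω` of an algebraic extension `Ω/k`, then
`X_Ω` is connected.  No finiteness assumption on `X`: clopen subsets of `Spec (κ(x) ⊗ Ω)` are
defined over a finite subextension.
-/

set_option autoImplicit false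
set_option linter.style.haveILetI false
universe u
noncomputable section
namespace Groth.Agent.Lib.Helper18.GeomConnFin

open TensorProduct CategoryTheory CategoryTheory.Limits AlgebraicGeometry
open Groth.Agent.Lib.Helper22 Groth.Agent.Lib.Helper22.SchGeomConn

section Alg

variable {k κ Ω : Type u} [Field k] [Field κ] [Algebra k κ] [Field Ω] [Algebra k Ω]

/-- `κ ⊗ K → κ ⊗ Ω`. -/
def incl (K : IntermediateField k Ω) : κ ⊗[k] K →ₐ[k] κ ⊗[k] Ω :=
  Algebra.TensorProduct.map (AlgHom.id k κ) K.val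

theorem range_incl_mono {K K' : IntermediateField k Ω} (h : K ≤ K') :
    (incl (κ := κ) K).range ≤ (incl (κ := κ) K').range := by
  rintro _ ⟨x, rfl⟩
  refine ⟨Algebra.TensorProduct.map (AlgHom.id k κ) (IntermediateField.inclusion h) x, ?_⟩
  simp only [incl, AlgHom.toRingHom_eq_coe, RingHom.coe_coe]
  rw [← AlgHom.comp_apply, ← Algebra.TensorProduct.map_comp]
  rfl

theorem exists_finite_mem_range [Algebra.IsAlgebraic k Ω] (e : κ ⊗[k] Ω) :
    ∃ K : IntermediateField k Ω, FiniteDimensional k K ∧ e ∈ (incl (κ := κ) K).range := by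
  induction e using TensorProduct.induction_on with
  | zero => exact ⟨⊥, inferInstance, Subalgebra.zero_mem _⟩
  | tmul a b =>
    refine ⟨IntermediateField.adjoin k {b},
      IntermediateField.adjoin.finiteDimensional (Algebra.IsIntegral.isIntegral b),
      ⟨a ⊗ₜ ⟨b, IntermediateField.mem_adjoin_simple_self k b⟩, ?_⟩⟩
    simp [incl]
  | add x y hx hy =>
    obtain ⟨K₁, hK₁, h₁⟩ := hx
    obtain ⟨K₂, hK₂, h₂⟩ := hy
    exact ⟨K₁ ⊔ K₂, inferInstance,
      Subalgebra.add_mem _ (range_incl_mono le_sup_left h₁) (range_incl_mono le_sup_right h₂)⟩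

end Alg

section Geom

variable {k : Type u} [Field k] {X : Scheme.{u}} (f : X ⟶ Spec (CommRingCat.of k))
  {κ : Type u} [Field κ] [Algebra k κ] (g : Spec (CommRingCat.of κ) ⟶ X)
  (hg : g ≫ f = Spec.map (CommRingCat.ofHom (algebraMap k κ)))

open Algebra.TensorProduct in
/-- The base change `Spec (κ ⊗ K) ⟶ X_K` of `g : Spec κ ⟶ X`. -/
def gK (K : Type u) [Field K] [Algebra k K] :
    Spec (CommRingCat.of (κ ⊗[k] K)) ⟶ FBase.bc f K :=
  pullback.lift (Spec.map (CommRingCat.ofHom (includeLeftRingHom (R := k) (A := κ) (B := K))) ≫ g)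
    (Spec.map (CommRingCat.ofHom (RingHomClass.toRingHom
      (includeRight (R := k) (A := κ) (B := K))))) (by
    rw [Category.assoc, hg, ← Spec.map_comp, ← Spec.map_comp]
    congr 1
    ext c
    simp only [CommRingCat.hom_comp, CommRingCat.hom_ofHom, RingHom.comp_apply]
    show (algebraMap k κ c) ⊗ₜ[k] (1 : K) = (1 : κ) ⊗ₜ[k] (algebraMap k K c)
    rw [Algebra.algebraMap_eq_smul_one, Algebra.algebraMap_eq_smul_one, TensorProduct.smul_tmul])

open Algebra.TensorProduct in
theorem gK_bcπ (K : Type u) [Field K] [Algebra k K] :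
    gK f g hg K ≫ FBase.bcπ f K =
      Spec.map (CommRingCat.ofHom (includeLeftRingHom (R := k) (A := κ) (B := K))) ≫ g :=
  pullback.lift_fst _ _ _

open Algebra.TensorProduct in
theorem gK_bcStr (K : Type u) [Field K] [Algebra k K] :
    gK f g hg K ≫ FBase.bcStr f K =
      Spec.map (CommRingCat.ofHom (RingHomClass.toRingHom
        (includeRight (R := k) (A := κ) (B := K)))) :=
  pullback.lift_snd _ _ _

variable {Ω : Type u} [Field Ω] [Algebra k Ω]

/-- `Spec (κ ⊗ Ω) ⟶ Spec (κ ⊗ K)`. -/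
def ρ (K : IntermediateField k Ω) :
    Spec (CommRingCat.of (κ ⊗[k] Ω)) ⟶ Spec (CommRingCat.of (κ ⊗[k] K)) :=
  Spec.map (CommRingCat.ofHom (incl (κ := κ) K).toRingHom)

theorem bc_condition (K : Type u) [Field K] [Algebra k K] :
    FBase.bcπ f K ≫ f = FBase.bcStr f K ≫ Spec.map (CommRingCat.ofHom (algebraMap k K)) :=
  pullback.condition

open Algebra.TensorProduct in
include hg in
theorem exists_lift (K : IntermediateField k Ω) (v : ↥(FBase.bc f Ω))
    (y : ↥(Spec (CommRingCat.of (κ ⊗[k] K))))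
    (hvy : (SchBC.bcMap f K Ω) v = (gK f g hg K) y) :
    ∃ w : ↥(Spec (CommRingCat.of (κ ⊗[k] Ω))),
      (gK f g hg Ω) w = v ∧ (ρ (κ := κ) K) w = y := by
  obtain ⟨z, hz1, hz2⟩ := Scheme.Pullback.exists_preimage_pullback
    (f := gK f g hg K) (g := SchBC.bcMap f K Ω) y v hvy.symm
  set fstP := pullback.fst (gK f g hg K) (SchBC.bcMap f K Ω) with hfstP
  set sndP := pullback.snd (gK f g hg K) (SchBC.bcMap f K Ω) with hsndP
  have hP : fstP ≫ gK f g hg K = sndP ≫ SchBC.bcMap f K Ω := pullback.condition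
  let ιL := Spec.map (CommRingCat.ofHom (includeLeftRingHom (R := k) (A := κ) (B := K)))
  have htower : Spec.map (CommRingCat.ofHom (algebraMap K Ω)) ≫
      Spec.map (CommRingCat.ofHom (algebraMap k K)) =
      Spec.map (CommRingCat.ofHom (algebraMap k Ω)) := by
    rw [← Spec.map_comp, ← CommRingCat.ofHom_comp, ← IsScalarTower.algebraMap_eq]
  have hcond : (fstP ≫ ιL) ≫ Spec.map (CommRingCat.ofHom (algebraMap k κ)) =
      (sndP ≫ FBase.bcStr f Ω) ≫ Spec.map (CommRingCat.ofHom (algebraMap k Ω)) := by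
    calc (fstP ≫ ιL) ≫ Spec.map (CommRingCat.ofHom (algebraMap k κ))
        = fstP ≫ (ιL ≫ g) ≫ f := by rw [← hg]; simp only [Category.assoc]
      _ = fstP ≫ (gK f g hg K ≫ FBase.bcπ f K) ≫ f := by rw [gK_bcπ]
      _ = (fstP ≫ gK f g hg K) ≫ FBase.bcπ f K ≫ f := by simp only [Category.assoc]
      _ = (sndP ≫ SchBC.bcMap f K Ω) ≫ FBase.bcStr f K ≫
            Spec.map (CommRingCat.ofHom (algebraMap k K)) := by rw [hP, bc_condition]
      _ = sndP ≫ (SchBC.bcMap f K Ω ≫ FBase.bcStr f K) ≫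
            Spec.map (CommRingCat.ofHom (algebraMap k K)) := by simp only [Category.assoc]
      _ = (sndP ≫ FBase.bcStr f Ω) ≫ Spec.map (CommRingCat.ofHom (algebraMap k Ω)) := by
          rw [SchBC.bcMap_bcStr, ← htower]; simp only [Category.assoc]
  let q0 := pullback.lift (fstP ≫ ιL) (sndP ≫ FBase.bcStr f Ω) hcond
  let q := q0 ≫ (pullbackSpecIso k κ Ω).hom
  have hqL : q ≫ Spec.map (CommRingCat.ofHom (includeLeftRingHom (R := k) (A := κ) (B := Ω))) =
      fstP ≫ ιL := by
    simp only [q, q0, Category.assoc, pullbackSpecIso_hom_fst, pullback.lift_fst]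
  have hqR : q ≫ Spec.map (CommRingCat.ofHom (RingHomClass.toRingHom
      (includeRight (R := k) (A := κ) (B := Ω)))) = sndP ≫ FBase.bcStr f Ω := by
    simp only [q, q0, Category.assoc, pullbackSpecIso_hom_snd, pullback.lift_snd]
  have hq1 : q ≫ gK f g hg Ω = sndP := by
    apply pullback.hom_ext
    · show (q ≫ gK f g hg Ω) ≫ FBase.bcπ f Ω = sndP ≫ FBase.bcπ f Ω
      rw [Category.assoc, gK_bcπ, ← Category.assoc, hqL, Category.assoc]
      show fstP ≫ ιL ≫ g = _
      rw [← gK_bcπ f g hg K, ← Category.assoc, hP, Category.assoc, SchBC.bcMap_bcπ]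
    · show (q ≫ gK f g hg Ω) ≫ FBase.bcStr f Ω = sndP ≫ FBase.bcStr f Ω
      rw [Category.assoc, gK_bcStr, hqR]
  have hq2 : q ≫ ρ (κ := κ) K = fstP := by
    rw [← cancel_mono (pullbackSpecIso k κ K).inv]
    apply pullback.hom_ext
    · simp only [Category.assoc, pullbackSpecIso_inv_fst]
      have h1 : ρ (κ := κ) K ≫
          Spec.map (CommRingCat.ofHom (includeLeftRingHom (R := k) (A := κ) (B := K))) =
          Spec.map (CommRingCat.ofHom (includeLeftRingHom (R := k) (A := κ) (B := Ω))) := by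
        rw [ρ, ← Spec.map_comp]
        congr 1
      rw [h1, hqL]
    · simp only [Category.assoc, pullbackSpecIso_inv_snd]
      have h2 : ρ (κ := κ) K ≫ Spec.map (CommRingCat.ofHom (RingHomClass.toRingHom
            (includeRight (R := k) (A := κ) (B := K)))) =
          Spec.map (CommRingCat.ofHom (RingHomClass.toRingHom
            (includeRight (R := k) (A := κ) (B := Ω)))) ≫
            Spec.map (CommRingCat.ofHom (algebraMap K Ω)) := by
        rw [ρ, ← Spec.map_comp, ← Spec.map_comp]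
        congr 1
      rw [h2, ← Category.assoc, hqR, Category.assoc, ← SchBC.bcMap_bcStr, ← Category.assoc, ← hP,
        Category.assoc, gK_bcStr]
  refine ⟨q z, ?_, ?_⟩
  · rw [← Scheme.Hom.comp_apply, hq1]; exact hz2
  · rw [← Scheme.Hom.comp_apply, hq2]; exact hz1

theorem isClosedMap_bcMap [Algebra.IsAlgebraic k Ω] (K : IntermediateField k Ω) :
    IsClosedMap (SchBC.bcMap f K Ω) := by
  haveI hsint : IsIntegralHom (Spec.map (CommRingCat.ofHom (algebraMap K Ω))) := by
    rw [IsIntegralHom.SpecMap_iff]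
    exact algebraMap_isIntegral_iff.mpr inferInstance
  haveI : IsIntegralHom (SchBC.bcMap f K Ω) :=
    MorphismProperty.of_isPullback (P := @IsIntegralHom) (SchBC.isPullback_bcMap f K Ω).flip hsint
  exact (SchBC.bcMap f K Ω).isClosedMap

theorem isOpenMap_bcMap (K : IntermediateField k Ω) : IsOpenMap (SchBC.bcMap f K Ω) := by
  haveI := SchBC.universallyOpen_bcMap f K Ω
  exact (SchBC.bcMap f K Ω).isOpenMap

/-- If `X_K` is connected for all finite subextensions `K` of the algebraic extension `Ω/k`, then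
`X_Ω` is connected. -/
theorem connectedSpace_bc_of_forall_finite [Algebra.IsAlgebraic k Ω]
    (h : ∀ K : IntermediateField k Ω, FiniteDimensional k K → ConnectedSpace ↥(FBase.bc f K)) :
    ConnectedSpace ↥(FBase.bc f Ω) := by
  haveI h0 := h ⊥ inferInstance
  obtain ⟨t0⟩ : Nonempty ↥(FBase.bc f (⊥ : IntermediateField k Ω)) := inferInstance
  let x₀ : X := FBase.bcπ f _ t0
  let κ : Type u := IsLocalRing.ResidueField (X.presheaf.stalk x₀)
  letI : Algebra k κ := (GeomIrrGen.resMap f x₀).toAlgebra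
  let g : Spec (CommRingCat.of κ) ⟶ X := X.fromSpecResidueField x₀
  have hg : g ≫ f = Spec.map (CommRingCat.ofHom (algebraMap k κ)) :=
    GeomIrrGen.fromSpecResidueField_comp f x₀
  obtain ⟨tΩ, -⟩ := surjective_bcπ f Ω x₀
  haveI : Nonempty ↥(FBase.bc f Ω) := ⟨tΩ⟩
  haveI : PreconnectedSpace ↥(FBase.bc f Ω) := by
    rw [preconnectedSpace_iff_clopen]
    intro V hV
    by_contra hcon
    push_neg at hcon
    obtain ⟨hVne, hVuniv⟩ := hcon
    have hVne' : V.Nonempty := hVne
    have hVcne : (Vᶜ).Nonempty := Set.nonempty_compl.mpr hVuniv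
    have hW : IsClopen ((gK f g hg Ω) ⁻¹' V) := hV.preimage (gK f g hg Ω).continuous
    obtain ⟨e, he, hWe⟩ := PrimeSpectrum.isClopen_iff.mp hW
    obtain ⟨K, hKfin, e', he'⟩ := exists_finite_mem_range (κ := κ) e
    haveI := h K hKfin
    obtain ⟨y₀⟩ : Nonempty (PrimeSpectrum (κ ⊗[k] K)) := inferInstance
    have hp1 : SchBC.bcMap f K Ω '' V = Set.univ :=
      IsClopen.eq_univ ⟨isClosedMap_bcMap f K V hV.1, isOpenMap_bcMap f K V hV.2⟩
        (hVne'.image _)
    have hp2 : SchBC.bcMap f K Ω '' Vᶜ = Set.univ :=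
      IsClopen.eq_univ ⟨isClosedMap_bcMap f K _ hV.compl.1, isOpenMap_bcMap f K _ hV.compl.2⟩
        (hVcne.image _)
    obtain ⟨v₁, hv₁V, hv₁⟩ : (gK f g hg K) y₀ ∈ SchBC.bcMap f K Ω '' V := hp1 ▸ Set.mem_univ _
    obtain ⟨v₂, hv₂V, hv₂⟩ : (gK f g hg K) y₀ ∈ SchBC.bcMap f K Ω '' Vᶜ := hp2 ▸ Set.mem_univ _
    obtain ⟨w₁, hw₁v, hw₁y⟩ := exists_lift f g hg K v₁ y₀ hv₁
    obtain ⟨w₂, hw₂v, hw₂y⟩ := exists_lift f g hg K v₂ y₀ hv₂
    have h1 : w₁ ∈ (gK f g hg Ω) ⁻¹' V := by
      show (gK f g hg Ω) w₁ ∈ V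
      rw [hw₁v]; exact hv₁V
    have h2 : w₂ ∉ (gK f g hg Ω) ⁻¹' V := by
      show (gK f g hg Ω) w₂ ∉ V
      rw [hw₂v]; exact hv₂V
    rw [hWe] at h1 h2
    have key : ∀ w : PrimeSpectrum (κ ⊗[k] Ω),
        w ∈ PrimeSpectrum.basicOpen e ↔ e' ∉ ((ρ (κ := κ) K) w).asIdeal := by
      intro w
      rw [PrimeSpectrum.mem_basicOpen, ← he']
      rfl
    have h3 := (key w₁).mp h1
    rw [hw₁y, ← hw₂y] at h3
    exact h2 ((key w₂).mpr h3)
  exact ConnectedSpace.mk ‹_›

end Geom

end Groth.Agent.Lib.Helper18.GeomConnFin
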