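import Mathlib
import Groth.Prelude.Def_Cyc

set_option autoImplicit false
universe u
open CategoryTheory AlgebraicGeometry

namespace Groth.Agent.Lib.Helper18.CycMap

/-- fibrewise decomposition of a finsum along a composite map -/
theorem finsum_mem_fiberwise {α β γ M : Type*} [AddCommMonoid M] (f : α → β) (g : β → γ) (F : α → M) (z : γ)
    (hfin : ((g ∘ f) ⁻¹' {z} ∩ Function.support F).Finite) :
    ∑ᶠ y ∈ g ⁻¹' {z}, ∑ᶠ x ∈ f ⁻¹' {y}, F x = ∑ᶠ x ∈ (g ∘ f) ⁻¹' {z}, F x := by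
  classical
  set S := hfin.toFinset with hS
  have hSmem : ∀ x, x ∈ S ↔ g (f x) = z ∧ F x ≠ 0 := by
    intro x; simp [hS, Set.Finite.mem_toFinset]
  have h1 : ∑ᶠ x ∈ (g ∘ f) ⁻¹' {z}, F x = ∑ x ∈ S, F x := by
    apply finsum_mem_eq_sum_of_inter_support_eq
    ext x; simp [hS]
  have h2 : ∀ y ∈ S.image f, ∑ᶠ x ∈ f ⁻¹' {y}, F x = ∑ x ∈ S.filter (fun x => f x = y), F x := by
    intro y hy
    apply finsum_mem_eq_sum_of_inter_support_eq
    ext x
    simp only [Set.mem_inter_iff, Set.mem_preimage, Set.mem_singleton_iff, Function.mem_support,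
      Finset.coe_filter, Set.mem_setOf_eq, hSmem]
    obtain ⟨x0, hx0, rfl⟩ := Finset.mem_image.1 hy
    constructor
    · rintro ⟨h, hF⟩
      exact ⟨⟨⟨by rw [h]; exact ((hSmem x0).1 hx0).1, hF⟩, h⟩, hF⟩
    · rintro ⟨⟨_, h⟩, hF⟩
      exact ⟨h, hF⟩
  have h3 : ∑ᶠ y ∈ g ⁻¹' {z}, ∑ᶠ x ∈ f ⁻¹' {y}, F x = ∑ y ∈ S.image f, ∑ᶠ x ∈ f ⁻¹' {y}, F x := by
    apply finsum_mem_eq_sum_of_inter_support_eq
    ext y
    simp only [Set.mem_inter_iff, Set.mem_preimage, Set.mem_singleton_iff, Function.mem_support,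
      Finset.coe_image, Set.mem_image, Finset.mem_coe]
    constructor
    · rintro ⟨hy, hH⟩
      refine ⟨?_, hH⟩
      obtain ⟨x, hx, hFx⟩ := exists_ne_zero_of_finsum_mem_ne_zero hH
      exact ⟨x, (hSmem x).2 ⟨by rw [show f x = y from hx]; exact hy, hFx⟩, hx⟩
    · rintro ⟨⟨x, hx, rfl⟩, hH⟩
      exact ⟨((hSmem x).1 hx).1, hH⟩
  rw [h1, h3, Finset.sum_congr rfl h2]
  exact Finset.sum_fiberwise_of_maps_to (fun x hx => Finset.mem_image_of_mem f hx) F


variable {X Y Z : Scheme.{u}}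

/-- tower law for residue degrees -/
theorem residueDegree_comp (f : X ⟶ Y) (g : Y ⟶ Z) (x : X) :
    (f ≫ g).residueDegree x = g.residueDegree (f x) * f.residueDegree x := by
  unfold Scheme.Hom.residueDegree
  letI a1 : Algebra (Z.residueField (g (f x))) (Y.residueField (f x)) :=
    (g.residueFieldMap (f x)).hom.toAlgebra
  letI a2 : Algebra (Y.residueField (f x)) (X.residueField x) := (f.residueFieldMap x).hom.toAlgebra
  letI a3 : Algebra (Z.residueField (g (f x))) (X.residueField x) :=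
    ((f ≫ g).residueFieldMap x).hom.toAlgebra
  haveI : IsScalarTower (Z.residueField (g (f x))) (Y.residueField (f x)) (X.residueField x) :=
    IsScalarTower.of_algebraMap_eq (fun r => by
      change ((f ≫ g).residueFieldMap x).hom r = _
      rw [Scheme.residueFieldMap_comp]
      rfl)
  exact (Module.finrank_mul_finrank (Z.residueField (g (f x))) (Y.residueField (f x))
    (X.residueField x)).symm

/-- multiplicativity of the pushforward coefficients under `DeltaCompat` -/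
theorem mapCoeff_comp (δX : X → ℤ) (δY : Y → ℤ) (δZ : Z → ℤ) (f : X ⟶ Y) (g : Y ⟶ Z)
    (hf : Cyc.DeltaCompat f δX δY) (hg : Cyc.DeltaCompat g δY δZ) (x : X) :
    AlgebraicCycle.mapCoeff (f ≫ g) δX δZ x =
      AlgebraicCycle.mapCoeff f δX δY x * AlgebraicCycle.mapCoeff g δY δZ (f x) := by
  obtain ⟨n1, -, h1⟩ := hf x
  obtain ⟨n2, -, h2⟩ := hg (f x)
  unfold AlgebraicCycle.mapCoeff
  have hc : (f ≫ g).base x = g.base (f.base x) := rfl
  rw [hc]
  by_cases hA : δX x = δY (f.base x)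
  · by_cases hB : δY (f.base x) = δZ (g.base (f.base x))
    · rw [if_pos hA, if_pos hB, if_pos (hA.trans hB), residueDegree_comp, mul_comm]
    · rw [if_neg hB, mul_zero, if_neg]
      intro h; apply hB; rw [← hA]; exact h
  · rw [if_neg hA, zero_mul, if_neg]
    intro h
    apply hA
    have h1' : δX x = δY (f.base x) + n1 := h1
    have h2' : δY (f.base x) = δZ (g.base (f.base x)) + n2 := h2
    omega


theorem finite_preimage_inter_support (f : X ⟶ Y) [QuasiCompact f] (α : AlgebraicCycle X ℤ) (y : Y) :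
    (f ⁻¹' {y} ∩ Function.support α).Finite := by
  obtain ⟨_, ⟨V, hV : IsAffineOpen V, rfl⟩, hyV, -⟩ :=
    Y.isBasis_affineOpens.exists_subset_of_mem_open (Set.mem_univ y) isOpen_univ
  have hc : IsCompact (f ⁻¹ᵁ V : Set X) :=
    QuasiCompact.isCompact_preimage (f := f) _ V.isOpen hV.isCompact
  refine (α.locallyFiniteSupport.finite_inter_support_of_isCompact hc).subset ?_
  rintro x ⟨hx, hα⟩
  refine ⟨?_, hα⟩
  show f x ∈ V
  rw [show f x = y from hx]; exact hyV

/-- functoriality of the pushforward of cycles -/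
theorem map_map (δX : X → ℤ) (δY : Y → ℤ) (δZ : Z → ℤ) (f : X ⟶ Y) (g : Y ⟶ Z) [QuasiCompact f]
    [QuasiCompact g] (hf : Cyc.DeltaCompat f δX δY) (hg : Cyc.DeltaCompat g δY δZ)
    (α : AlgebraicCycle X ℤ) :
    AlgebraicCycle.map g δY δZ (AlgebraicCycle.map f δX δY α) =
      AlgebraicCycle.map (f ≫ g) δX δZ α := by
  ext z
  simp only [AlgebraicCycle.map, Function.locallyFinsupp.map_apply]
  have hfin : ((g ∘ f) ⁻¹' {z} ∩
      Function.support (fun x => α x * ((AlgebraicCycle.mapCoeff (f ≫ g) δX δZ x : ℕ) : ℤ))).Finite := by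
    refine (finite_preimage_inter_support (f ≫ g) α z).subset ?_
    rintro x ⟨hx, hF⟩
    refine ⟨hx, ?_⟩
    intro h0
    apply hF
    simp [h0]
  rw [show ∑ᶠ x ∈ (f ≫ g) ⁻¹' {z}, α x * ((AlgebraicCycle.mapCoeff (f ≫ g) δX δZ x : ℕ) : ℤ) =
      ∑ᶠ x ∈ (g ∘ f) ⁻¹' {z}, α x * ((AlgebraicCycle.mapCoeff (f ≫ g) δX δZ x : ℕ) : ℤ) from rfl,
    ← finsum_mem_fiberwise f g _ z hfin]
  refine finsum_mem_congr rfl (fun y _ => ?_)
  rw [finsum_mem_mul]
  refine finsum_mem_congr rfl (fun x hx => ?_)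
  have hx' : f x = y := hx
  rw [mapCoeff_comp δX δY δZ f g hf hg x, hx', Nat.cast_mul, mul_assoc]

end Groth.Agent.Lib.Helper18.CycMap
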