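import Mathlib.RingTheory.Localization.Away.Basic
import Mathlib.LinearAlgebra.Matrix.Charpoly.LinearMap
import Mathlib.RingTheory.Ideal.Operations

/-! Localisation of a quotient as a localisation of the ring, when a multiple of the element kills the
kernel (helper18). -/

set_option autoImplicit false

namespace Groth.Agent.Lib.Helper18.AwayQuot

open Polynomial

/-- If `I` is a finitely generated ideal and `b • I ≤ I * I`, then some `s' ≡ b ^ N (mod I)` kills `I`
(Cayley–Hamilton). -/
theorem exists_kill_of_smul_le_sq {B : Type*} [CommRing B] (I : Ideal B) (hI : I.FG) (b : B)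
    (h : ∀ y ∈ I, b * y ∈ I * I) :
    ∃ (s' : B) (N : ℕ), (∀ y ∈ I, s' * y = 0) ∧ s' - b ^ N ∈ I := by
  have : Module.Finite B I := Module.Finite.iff_fg.mpr hI
  let f : Module.End B I := algebraMap B (Module.End B I) b
  have hrange : LinearMap.range f ≤ I • (⊤ : Submodule B I) := by
    rintro _ ⟨y, rfl⟩
    rw [Submodule.mem_smul_top_iff]
    have : ((f y : I) : B) = b * (y : B) := rfl
    rw [this, smul_eq_mul]
    exact h y y.2
  obtain ⟨p, hmonic, -, hcoeff, hp⟩ :=
    LinearMap.exists_monic_and_natDegree_eq_and_coeff_mem_pow_and_aeval_eq_zero B f I hrange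
  refine ⟨p.eval b, p.natDegree, ?_, ?_⟩
  · intro y hy
    have h1 : Polynomial.aeval f p = algebraMap B (Module.End B I) (p.eval b) := by
      exact Polynomial.aeval_algebraMap_apply_eq_algebraMap_eval b p
    rw [h1] at hp
    have h2 := LinearMap.congr_fun hp ⟨y, hy⟩
    rw [Module.algebraMap_end_apply] at h2
    exact congrArg Subtype.val h2
  · rw [Polynomial.eval_eq_sum_range, Finset.sum_range_succ, hmonic.coeff_natDegree, one_mul,
      add_sub_cancel_right]
    refine I.sum_mem fun k hk => ?_
    rw [Finset.mem_range] at hk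
    refine I.mul_mem_right _ (Ideal.pow_le_self ?_ (hcoeff k))
    omega

/-- Let `B → A` be surjective, `S` the localisation of `A` away from `a`, and `s : B` an element mapping to
a positive power of `a` which kills the kernel of `B → A`.  Then `S` is the localisation of `B` away from
`s`. -/
theorem away_of_surjective_of_kill {B A S : Type*} [CommRing B] [CommRing A] [CommRing S]
    [Algebra A S] [Algebra B S] [Algebra B A] [IsScalarTower B A S]
    (hπ : Function.Surjective (algebraMap B A)) (a : A) [IsLocalization.Away a S]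
    (s : B) (M : ℕ) (hs : algebraMap B A s = a ^ (M + 1))
    (hkill : ∀ y : B, algebraMap B A y = 0 → s * y = 0) :
    IsLocalization.Away s S := by
  have hsS : algebraMap B S s = algebraMap A S a ^ (M + 1) := by
    rw [IsScalarTower.algebraMap_apply B A S, hs, map_pow]
  refine IsLocalization.Away.mk s ?_ ?_ ?_
  · rw [hsS]
    exact (IsLocalization.Away.algebraMap_isUnit a).pow _
  · intro z
    obtain ⟨k, x, hx⟩ := IsLocalization.Away.surj a z
    obtain ⟨y, hy⟩ := hπ (x * a ^ (M * k))
    refine ⟨k, y, ?_⟩
    rw [hsS, IsScalarTower.algebraMap_apply B A S y, hy, map_mul, ← hx, map_pow, ← pow_mul]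
    rw [mul_assoc, ← pow_add]
    congr 2
    ring
  · intro y₁ y₂ h
    rw [IsScalarTower.algebraMap_apply B A S y₁, IsScalarTower.algebraMap_apply B A S y₂] at h
    obtain ⟨j, hj⟩ := IsLocalization.Away.exists_of_eq a h
    refine ⟨j + 1, ?_⟩
    have h0 : algebraMap B A (s ^ j * (y₁ - y₂)) = 0 := by
      rw [map_mul, map_pow, hs, map_sub, ← pow_mul]
      have : (M + 1) * j = M * j + j := by ring
      rw [this, pow_add, mul_assoc, mul_sub, hj, sub_self, mul_zero]
    have h1 := hkill _ h0
    rw [← mul_assoc, ← pow_succ', mul_sub, sub_eq_zero] at h1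
    exact h1

end Groth.Agent.Lib.Helper18.AwayQuot
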