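import Mathlib
import Groth.Agent.Lib.Helper22.SchGeomConn
import Groth.Prelude.Def_CurvBase

set_option autoImplicit false
set_option linter.style.haveILetI false
universe u
open CategoryTheory CategoryTheory.Limits AlgebraicGeometry

namespace Groth.Agent.Lib.Helper18.ConnBC

variable {k : Type u} [Field k] {X Y : Scheme.{u}} (g : Y ⟶ X) (f : X ⟶ Spec (CommRingCat.of k))

/-- If `X` is connected, `K/k` is algebraic, and `X` receives a `k`-morphism from a `k`-scheme `Y` with `Y_K`
connected, then `X_K` is connected. (Variant of helper22's `connectedSpace_bc_of_isAlgebraic`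
needing connectedness of `Y_K` only for the given `K`.) -/
theorem connectedSpace_bc_of_connectedSpace_bc [ConnectedSpace X] (K : Type u) [Field K] [Algebra k K]
    [Algebra.IsAlgebraic k K]
    (hYK : ConnectedSpace ↥(pullback (g ≫ f) (Spec.map (CommRingCat.ofHom (algebraMap k K))))) :
    ConnectedSpace ↥(pullback f (Spec.map (CommRingCat.ofHom (algebraMap k K)))) := by
  let s : Spec (CommRingCat.of K) ⟶ Spec (CommRingCat.of k) :=
    Spec.map (CommRingCat.ofHom (algebraMap k K))
  let p : pullback f s ⟶ X := pullback.fst f s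
  let gK : pullback (g ≫ f) s ⟶ pullback f s :=
    pullback.lift (pullback.fst _ _ ≫ g) (pullback.snd _ _)
      (by rw [Category.assoc]; exact pullback.condition)
  have hgK1 : gK ≫ p = pullback.fst (g ≫ f) s ≫ g := pullback.lift_fst _ _ _
  have hgK2 : gK ≫ pullback.snd f s = pullback.snd (g ≫ f) s := pullback.lift_snd _ _ _
  have hpb : IsPullback gK (pullback.fst (g ≫ f) s) p g := by
    have hbig : IsPullback (pullback.fst (g ≫ f) s) (pullback.snd (g ≫ f) s) (g ≫ f) s :=
      IsPullback.of_hasPullback _ _
    have hsmall : IsPullback p (pullback.snd f s) f s := IsPullback.of_hasPullback _ _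
    refine IsPullback.of_right ?_ hgK1 hsmall.flip
    rw [hgK2]
    exact hbig.flip
  have hrange : Set.range gK = p ⁻¹' Set.range g := by
    have h1 : Set.range gK = Set.range (pullback.fst p g) := by
      have h2 : hpb.isoPullback.hom ≫ pullback.fst p g = gK := hpb.isoPullback_hom_fst
      rw [← h2]
      ext x
      constructor
      · rintro ⟨a, rfl⟩
        exact ⟨hpb.isoPullback.hom a, by rw [← Scheme.Hom.comp_apply]⟩
      · rintro ⟨a, rfl⟩
        refine ⟨hpb.isoPullback.inv a, ?_⟩
        simp [← Scheme.Hom.comp_apply]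
    rw [h1, Scheme.Pullback.range_fst]
  haveI : Subsingleton ↥(Spec (CommRingCat.of k)) :=
    Groth.Agent.Lib.Helper22.SchGeomIrr.subsingleton_spec_field
  haveI hsint : IsIntegralHom s := by
    rw [IsIntegralHom.SpecMap_iff]
    exact algebraMap_isIntegral_iff.mpr inferInstance
  have hopen : IsOpenMap p := (pullback.fst f s).isOpenMap
  have hclosed : IsClosedMap p := (pullback.fst f s).isClosedMap
  haveI : Nonempty ↥(pullback (g ≫ f) s) := hYK.toNonempty
  have hpre : _root_.IsPreconnected (p ⁻¹' Set.range g) := by
    rw [← hrange]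
    exact isPreconnected_range gK.continuous
  haveI : Nonempty Y := ⟨pullback.fst (g ≫ f) s (Nonempty.some inferInstance)⟩
  haveI : PreconnectedSpace ↥(pullback f s) :=
    Groth.Agent.Lib.Helper22.SchGeomConn.preconnectedSpace_of_isOpenMap_of_isClosedMap p hopen hclosed
      (Set.range g) (Set.range_nonempty _) hpre
  haveI : Nonempty ↥(pullback f s) := ⟨gK (Nonempty.some inferInstance)⟩
  exact ConnectedSpace.mk ‹_›

end Groth.Agent.Lib.Helper18.ConnBC
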