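import Mathlib
import Groth.Agent.S9627

/-!
# Separable elements and irreducibility of `Spec (K ⊗ k(α))`

Refinement of helper22's `GeomIrr4.mem_range_of_geomIrr`: only the single test field `k(α)` is used.
-/

set_option autoImplicit false
set_option linter.style.haveILetI false
universe u
noncomputable section
namespace Groth.Agent.Lib.Helper18.GeomIrrAlg

open TensorProduct Polynomial

open Groth.Agent.S9627 in
/-- If `α ∈ K` is separable over `k` and `Spec (K ⊗ k(α))` is irreducible then `α ∈ k`. -/
theorem mem_range_of_irreducible_adjoinRoot {k K : Type u} [Field k] [Field K] [Algebra k K]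
    (α : K) (hα : IsSeparable k α)
    (hirr : IrreducibleSpace (PrimeSpectrum (K ⊗[k] AdjoinRoot (minpoly k α)))) :
    α ∈ Set.range (algebraMap k K) := by
  classical
  by_contra hne
  let f := minpoly k α
  have hint : IsIntegral k α := hα.isIntegral
  haveI : Fact (Irreducible f) := ⟨minpoly.irreducible hint⟩
  let k' := AdjoinRoot f
  have hprime := PrimeSpectrum.irreducibleSpace_iff_isPrime_nilradical.mp hirr
  let ρ : K ⊗[k] k' := 1 ⊗ₜ AdjoinRoot.root f
  let P : K[X] := f.map (algebraMap k K)
  have hPα : P.IsRoot α := by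
    show eval α (f.map (algebraMap k K)) = 0
    rw [eval_map_algebraMap]; exact minpoly.aeval k α
  let g : K[X] := P /ₘ (X - C α)
  have hPg : (X - C α) * g = P := mul_divByMonic_eq_iff_isRoot.mpr hPα
  have hρ : aeval ρ P = 0 := by
    show aeval ρ (f.map (algebraMap k K)) = 0
    rw [aeval_map_algebraMap]
    have : ρ = (Algebra.TensorProduct.includeRight : k' →ₐ[k] K ⊗[k] k') (AdjoinRoot.root f) := rfl
    rw [this, aeval_algHom_apply, AdjoinRoot.aeval_eq, AdjoinRoot.mk_self, map_zero]
  let u : K ⊗[k] k' := ρ - algebraMap K (K ⊗[k] k') α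
  let v : K ⊗[k] k' := aeval ρ g
  have huv : u * v = 0 := by
    have : u = aeval ρ (X - C α) := by simp [u]
    rw [this, ← map_mul, hPg, hρ]
  -- g(α) ≠ 0
  have hgα : g.eval α ≠ 0 := by
    have h1 : aeval α (derivative f) ≠ 0 := hα.aeval_derivative_ne_zero (minpoly.aeval k α)
    have h2 : aeval α (derivative f) = (derivative P).eval α := by
      rw [← eval_map_algebraMap, derivative_map]
    rw [h2, ← hPg, derivative_mul] at h1
    simpa using h1
  -- φ₁ : root ↦ α
  have hroot1 : f.eval₂ (Algebra.ofId k K : k →ₐ[k] K) α = 0 := by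
    have := minpoly.aeval k α
    rwa [aeval_def] at this
  let φ₁ : K ⊗[k] k' →ₐ[K] K :=
    Algebra.TensorProduct.lift (AlgHom.id K K)
      (AdjoinRoot.liftAlgHom f (Algebra.ofId k K) α hroot1) (fun _ _ => Commute.all _ _)
  have hφ₁ρ : φ₁ ρ = α := by
    simp only [φ₁, ρ, Algebra.TensorProduct.lift_tmul, map_one, one_mul]
    exact AdjoinRoot.liftAlgHom_root _ _ _ _
  have hv : v ∉ nilradical (K ⊗[k] k') := by
    intro hv
    obtain ⟨n, hn⟩ := mem_nilradical.mp hv
    have h1 : φ₁ v = g.eval α := by
      show φ₁ (aeval ρ g) = _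
      rw [← aeval_algHom_apply, hφ₁ρ, coe_aeval_eq_eval]
    have h2 : (g.eval α) ^ n = 0 := by rw [← h1, ← map_pow, hn, map_zero]
    by_cases hn0 : n = 0
    · subst hn0; simp at h2
    · exact hgα ((pow_eq_zero_iff hn0).mp h2)
  -- a root β of g in the algebraic closure
  let Ω := AlgebraicClosure K
  have hgdeg : (g.map (algebraMap K Ω)).degree ≠ 0 := by
    have hfdeg : 2 ≤ f.natDegree := by
      have h1 : 0 < f.natDegree := minpoly.natDegree_pos hint
      have h2 : f.natDegree ≠ 1 := by
        intro h2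
        exact hne ((minpoly.natDegree_eq_one_iff).mp h2)
      omega
    have hg0 : g ≠ 0 := by
      rintro h0
      rw [h0, eval_zero] at hgα
      exact hgα rfl
    have hdeg : P.natDegree = 1 + g.natDegree := by
      rw [← hPg, natDegree_mul (X_sub_C_ne_zero α) hg0, natDegree_X_sub_C]
    have hPdeg : P.natDegree = f.natDegree := natDegree_map _
    rw [degree_map, degree_eq_natDegree hg0]
    have : g.natDegree ≠ 0 := by omega
    exact_mod_cast this
  obtain ⟨β, hβ⟩ := IsAlgClosed.exists_root _ hgdeg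
  have hβg : aeval β g = 0 := by
    rw [IsRoot, eval_map_algebraMap] at hβ; exact hβ
  have hβα : β ≠ algebraMap K Ω α := by
    rintro rfl
    rw [aeval_algebraMap_apply, coe_aeval_eq_eval] at hβg
    exact hgα ((algebraMap K Ω).injective (by rw [hβg, map_zero]))
  have hroot2 : f.eval₂ (IsScalarTower.toAlgHom k k Ω : k →ₐ[k] Ω) β = 0 := by
    have h1 : aeval β P = 0 := by
      rw [← hPg, map_mul, hβg, mul_zero]
    have h2 : aeval β f = 0 := by
      rwa [aeval_map_algebraMap] at h1
    rwa [aeval_def] at h2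
  let φ₂ : K ⊗[k] k' →ₐ[K] Ω :=
    Algebra.TensorProduct.lift (Algebra.ofId K Ω)
      (AdjoinRoot.liftAlgHom f (IsScalarTower.toAlgHom k k Ω) β hroot2) (fun _ _ => Commute.all _ _)
  have hφ₂ρ : φ₂ ρ = β := by
    simp only [φ₂, ρ, Algebra.TensorProduct.lift_tmul, map_one, one_mul]
    exact AdjoinRoot.liftAlgHom_root _ _ _ _
  have hu : u ∉ nilradical (K ⊗[k] k') := by
    intro hu
    obtain ⟨n, hn⟩ := mem_nilradical.mp hu
    have h1 : φ₂ u = β - algebraMap K Ω α := by
      show φ₂ (ρ - algebraMap K (K ⊗[k] k') α) = _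
      rw [map_sub, hφ₂ρ, AlgHom.commutes]
    have h2 : (β - algebraMap K Ω α) ^ n = 0 := by rw [← h1, ← map_pow, hn, map_zero]
    have h3 : β - algebraMap K Ω α = 0 := by
      by_cases hn0 : n = 0
      · subst hn0; simp at h2
      · exact (pow_eq_zero_iff hn0).mp h2
    exact hβα (sub_eq_zero.mp h3)
  have hmem : u * v ∈ nilradical (K ⊗[k] k') := by rw [huv]; exact Ideal.zero_mem _
  rcases hprime.mem_or_mem hmem with h1 | h1
  · exact hu h1
  · exact hv h1

open Groth.Agent.S9627 in
/-- If `α ∈ K` is separable over `k`, `k(α)` embeds in `L` over `k` and `Spec (K ⊗ L)` is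
irreducible, then `α ∈ k`. -/
theorem mem_range_of_irreducible_tensor {k K L : Type u} [Field k] [Field K] [Algebra k K]
    [Field L] [Algebra k L] (α : K) (hα : IsSeparable k α)
    (ψ : AdjoinRoot (minpoly k α) →ₐ[k] L)
    (hirr : IrreducibleSpace (PrimeSpectrum (K ⊗[k] L))) :
    α ∈ Set.range (algebraMap k K) := by
  haveI : Fact (Irreducible (minpoly k α)) := ⟨minpoly.irreducible hα.isIntegral⟩
  refine mem_range_of_irreducible_adjoinRoot α hα ?_
  let F : K ⊗[k] AdjoinRoot (minpoly k α) →ₐ[k] K ⊗[k] L :=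
    Algebra.TensorProduct.map (AlgHom.id k K) ψ
  have hF : Function.Injective F := by
    have : Function.Injective (ψ.toLinearMap.lTensor K) :=
      Module.Flat.lTensor_preserves_injective_linearMap _ ψ.toRingHom.injective
    exact this
  exact irr_of_injective F.toRingHom hF

/-- The `k`-algebra map `k(α) → K`. -/
def adjoinRootToField {k K : Type u} [Field k] [Field K] [Algebra k K] (α : K) :
    AdjoinRoot (minpoly k α) →ₐ[k] K :=
  AdjoinRoot.liftAlgHom (minpoly k α) (Algebra.ofId k K) α (by
    have := minpoly.aeval k α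
    rwa [aeval_def] at this)

end Groth.Agent.Lib.Helper18.GeomIrrAlg
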