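import Mathlib
import Groth.Agent.Lib.Helper18.GalFibre
import Groth.Agent.Lib.Helper22.SchGeomConn10
import Groth.Agent.S1538
import Groth.Agent.S1559

set_option autoImplicit false
set_option linter.style.haveILetI false
universe u
open CategoryTheory CategoryTheory.Limits AlgebraicGeometry TensorProduct

namespace Groth.Agent.Lib.Helper18.GalFibre

open Groth.Agent.Lib.Helper22.SchGeomConn

variable {k : Type u} [Field k]

/-- If the preimage of a closed subset `T ⊆ X` in `X_{k^sep}` is irreducible, then the preimage of
`T` in `X_K` is irreducible for every field extension `K/k`. -/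
theorem isIrreducible_preimage_of_sepClosure {X : Scheme.{u}} (f : X ⟶ Spec (CommRingCat.of k))
    (T : Set X) (hT : IsClosed T)
    (h : IsIrreducible ((pullback.fst f (sK k (SeparableClosure k))).base ⁻¹' T))
    (K : Type u) [Field K] [Algebra k K] :
    IsIrreducible ((pullback.fst f (sK k K)).base ⁻¹' T) := by
  let I := Scheme.IdealSheafData.vanishingIdeal ⟨T, hT⟩
  let ι := I.subschemeι
  have hr : Set.range ι = T := by
    rw [Scheme.IdealSheafData.range_subschemeι, Scheme.IdealSheafData.coe_support_vanishingIdeal]
    rfl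
  -- Step A
  haveI hA : IrreducibleSpace ↥(FBase.bc (ι ≫ f) (SeparableClosure k)) := by
    let j := bcLift' f ι (ι ≫ f) rfl (SeparableClosure k)
    haveI : IsPreimmersion j := isPreimmersion_bcLift' f ι _ rfl (SeparableClosure k)
    have hjr : Set.range j = FBase.bcπ f (SeparableClosure k) ⁻¹' Set.range ι :=
      range_bcLift' f ι _ rfl (SeparableClosure k)
    rw [hr] at hjr
    have h1 : IsIrreducible (Set.range j) := by rw [hjr]; exact h
    exact irreducibleSpace_of_isInducing_of_isIrreducible_range j.isEmbedding.isInducing h1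
  -- Step B
  letI : I.subscheme.Over (Spec (CommRingCat.of k)) := ⟨ι ≫ f⟩
  haveI : IrreducibleSpace ↥(Curv2.bc k I.subscheme (SeparableClosure k)) := hA
  have hB : GeometricallyIrreducible (ι ≫ f) := Groth.Agent.S1538.result k I.subscheme
  -- Step C
  haveI hC : IrreducibleSpace ↥(FBase.bc (ι ≫ f) K) :=
    pullback_of_geometrically
      (GeometricallyIrreducible.geometrically_irreducibleSpace (f := ι ≫ f)) K
      (Spec.map (CommRingCat.ofHom (algebraMap k K)))
  let j := bcLift' f ι (ι ≫ f) rfl K
  have hjr : Set.range j = FBase.bcπ f K ⁻¹' Set.range ι := range_bcLift' f ι _ rfl K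
  rw [hr] at hjr
  change IsIrreducible (FBase.bcπ f K ⁻¹' T)
  rw [← hjr, ← Set.image_univ]
  exact (IrreducibleSpace.isIrreducible_univ _).image _ j.continuous.continuousOn

theorem connectedSpace_of_isInducing_of_isConnected_range {A B : Type*} [TopologicalSpace A]
    [TopologicalSpace B] {j : A → B} (hj : Topology.IsInducing j)
    (h : _root_.IsConnected (Set.range j)) : ConnectedSpace A := by
  obtain ⟨⟨b, a, rfl⟩, hpre⟩ := h
  haveI : Nonempty A := ⟨a⟩
  haveI : PreconnectedSpace A := by
    refine ⟨?_⟩
    rw [← hj.isPreconnected_image, Set.image_univ]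
    exact hpre
  exact ConnectedSpace.mk ‹_›

/-- If the preimage of a closed subset `T ⊆ X` in `X_{k^sep}` is connected, then the preimage of
`T` in `X_K` is connected for every field extension `K/k`. -/
theorem isConnected_preimage_of_sepClosure {X : Scheme.{u}} (f : X ⟶ Spec (CommRingCat.of k))
    (T : Set X) (hT : IsClosed T)
    (h : _root_.IsConnected ((pullback.fst f (sK k (SeparableClosure k))).base ⁻¹' T))
    (K : Type u) [Field K] [Algebra k K] :
    _root_.IsConnected ((pullback.fst f (sK k K)).base ⁻¹' T) := by
  let I := Scheme.IdealSheafData.vanishingIdeal ⟨T, hT⟩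
  let ι := I.subschemeι
  have hr : Set.range ι = T := by
    rw [Scheme.IdealSheafData.range_subschemeι, Scheme.IdealSheafData.coe_support_vanishingIdeal]
    rfl
  -- Step A
  haveI hA : ConnectedSpace ↥(FBase.bc (ι ≫ f) (SeparableClosure k)) := by
    let j := bcLift' f ι (ι ≫ f) rfl (SeparableClosure k)
    haveI : IsPreimmersion j := isPreimmersion_bcLift' f ι _ rfl (SeparableClosure k)
    have hjr : Set.range j = FBase.bcπ f (SeparableClosure k) ⁻¹' Set.range ι :=
      range_bcLift' f ι _ rfl (SeparableClosure k)
    rw [hr] at hjr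
    have h1 : _root_.IsConnected (Set.range j) := by rw [hjr]; exact h
    exact connectedSpace_of_isInducing_of_isConnected_range j.isEmbedding.isInducing h1
  -- Step B
  letI : I.subscheme.Over (Spec (CommRingCat.of k)) := ⟨ι ≫ f⟩
  haveI : ConnectedSpace ↥(Curv2.bc k I.subscheme (SeparableClosure k)) := hA
  have hB : GeometricallyConnected (ι ≫ f) := Groth.Agent.S1559.result k I.subscheme
  -- Step C
  haveI hC : ConnectedSpace ↥(FBase.bc (ι ≫ f) K) :=
    pullback_of_geometrically
      (GeometricallyConnected.geometrically_connectedSpace (f := ι ≫ f)) K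
      (Spec.map (CommRingCat.ofHom (algebraMap k K)))
  let j := bcLift' f ι (ι ≫ f) rfl K
  have hjr : Set.range j = FBase.bcπ f K ⁻¹' Set.range ι := range_bcLift' f ι _ rfl K
  rw [hr] at hjr
  change _root_.IsConnected (FBase.bcπ f K ⁻¹' T)
  rw [← hjr, ← Set.image_univ]
  exact isConnected_univ.image _ j.continuous.continuousOn

end Groth.Agent.Lib.Helper18.GalFibre
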