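import Groth.Agent.Lib.Helper18.Disp

/-! More lemmas on 3n-displays (helper18): morphisms from generators of `Q`. -/

set_option autoImplicit false
universe u v w

namespace Groth.Agent.Lib.Helper18.DispLib

open W4c1extbt610

variable {p : ℕ} [Fact p.Prime] {R : Type u} [CommRing R]
variable {M : Type v} [AddCommGroup M] [Module (WittVector p R) M]
variable {P' : Type w} [AddCommGroup P'] [Module (WittVector p R) P']

theorem Vinv_congr (D : Display3n p R M) {a b : M} (h : a = b) (ha : a ∈ D.Q) (hb : b ∈ D.Q) :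
    D.Vinv ⟨a, ha⟩ = D.Vinv ⟨b, hb⟩ := by
  subst h; rfl

/-- A linear map is a morphism of 3n-displays as soon as it is compatible with `Q` and `Vinv` on a family
spanning `Q`. -/
theorem isHom_of_span (E : Display3n p R M) (D' : Display3n p R P')
    (ψ : M →ₗ[WittVector p R] P') {ι : Type*} (g : ι → M)
    (hg : E.Q = Submodule.span (WittVector p R) (Set.range g))
    (h1 : ∀ i, ψ (g i) ∈ D'.Q)
    (h2 : ∀ i (h : g i ∈ E.Q), ψ (E.Vinv ⟨g i, h⟩) = D'.Vinv ⟨ψ (g i), h1 i⟩) :
    IsHom E D' ψ := by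
  have hmaps : ∀ q : M, q ∈ E.Q → ψ q ∈ D'.Q := by
    have : E.Q ≤ D'.Q.comap ψ := by
      rw [hg, Submodule.span_le]
      rintro _ ⟨i, rfl⟩
      exact h1 i
    exact fun q hq => this hq
  have hgQ : ∀ i, g i ∈ E.Q := fun i => by rw [hg]; exact Submodule.subset_span ⟨i, rfl⟩
  let f₁ : E.Q →ₛₗ[(WittVector.frobenius : WittVector p R →+* WittVector p R)] P' := ψ.comp E.Vinv
  let f₂ : E.Q →ₛₗ[(WittVector.frobenius : WittVector p R →+* WittVector p R)] P' :=
    D'.Vinv.comp (LinearMap.codRestrict D'.Q (ψ.comp E.Q.subtype) (fun q => hmaps q q.2))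
  have hf : f₁ = f₂ := by
    refine LinearMap.ext_on_range (v := fun i => (⟨g i, hgQ i⟩ : E.Q)) ?_ ?_
    · apply Submodule.map_injective_of_injective E.Q.injective_subtype
      rw [Submodule.map_span, Submodule.map_subtype_top, ← Set.range_comp]
      exact hg.symm
    · intro i
      exact h2 i (hgQ i)
  have hVinv : ∀ q : E.Q, ψ (E.Vinv q) = D'.Vinv ⟨ψ q, hmaps q q.2⟩ := fun q =>
    LinearMap.congr_fun hf q
  refine ⟨hmaps, ?_, hVinv⟩
  intro x
  rw [F_eq_Vinv E x, hVinv, F_eq_Vinv D' (ψ x)]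
  exact Vinv_congr D' (map_smul ψ _ _) _ _

end Groth.Agent.Lib.Helper18.DispLib
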