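import Mathlib

/-!
# Gluing sections of an integral scheme inside its function field

If an element `z` of the function field of an integral scheme `X` is, locally on an open `W`,
the germ of a section, then it is the germ of a section over `W`.
-/

set_option autoImplicit false
universe u
open CategoryTheory CategoryTheory.Limits AlgebraicGeometry TopologicalSpace Opposite

namespace Groth.Agent.Lib.Helper18.FFGlue

variable {X : Scheme.{u}} [IsIntegral X]

theorem genericPoint_mem_of_nonempty (V : X.Opens) (hV : (V : Set X).Nonempty) :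
    genericPoint X ∈ V :=
  ((genericPoint_spec X).mem_open_set_iff V.isOpen).mpr (by simpa using hV)

theorem exists_section_of_locally (W : X.Opens) (hW : (W : Set X).Nonempty)
    (z : X.functionField)
    (h : ∀ x ∈ W, ∃ (V : X.Opens) (hxV : x ∈ V), V ≤ W ∧
        ∃ s : Γ(X, V),
          (X.presheaf.germ V (genericPoint X) (genericPoint_mem_of_nonempty V ⟨x, hxV⟩)).hom s = z) :
    ∃ s : Γ(X, W),
      (X.presheaf.germ W (genericPoint X) (genericPoint_mem_of_nonempty W hW)).hom s = z := by
  classical
  choose V hxV hVW s hs using h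
  let U : W → X.Opens := fun i => V i.1 i.2
  let sf : ∀ i : W, Γ(X, U i) := fun i => s i.1 i.2
  have hUne : ∀ i : W, ((U i : X.Opens) : Set X).Nonempty := fun i => ⟨i.1, hxV i.1 i.2⟩
  have hcompat : TopCat.Presheaf.IsCompatible X.sheaf.1 U sf := by
    intro i j
    have hne : (((U i ⊓ U j : X.Opens)) : Set X).Nonempty := by
      have := nonempty_preirreducible_inter (U i).isOpen (U j).isOpen (hUne i) (hUne j)
      simpa using this
    have hg := genericPoint_mem_of_nonempty (U i ⊓ U j) hne
    apply germ_injective_of_isIntegral X (genericPoint X) hg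
    have h1 := X.presheaf.germ_res_apply (Opens.infLELeft (U i) (U j)) (genericPoint X) hg (sf i)
    have h2 := X.presheaf.germ_res_apply (Opens.infLERight (U i) (U j)) (genericPoint X) hg (sf j)
    refine h1.trans (Eq.trans ?_ h2.symm)
    exact (hs i.1 i.2).trans (hs j.1 j.2).symm
  have hcover : W ≤ iSup U := by
    intro x hx
    exact Opens.mem_iSup.mpr ⟨⟨x, hx⟩, hxV x hx⟩
  obtain ⟨t, ht, -⟩ := X.sheaf.existsUnique_gluing' U W (fun i => homOfLE (hVW i.1 i.2)) hcover sf
    hcompat
  refine ⟨t, ?_⟩
  obtain ⟨x0, hx0⟩ := hW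
  have h1 := X.presheaf.germ_res_apply (homOfLE (hVW x0 hx0)) (genericPoint X)
    (genericPoint_mem_of_nonempty (V x0 hx0) ⟨x0, hxV x0 hx0⟩) t
  rw [← h1]
  have h2 := ht ⟨x0, hx0⟩
  have h3 : (X.presheaf.map (homOfLE (hVW x0 hx0)).op).hom t = s x0 hx0 := h2
  rw [h3]
  exact hs x0 hx0

end Groth.Agent.Lib.Helper18.FFGlue
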