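import Mathlib
import Groth.Agent.Lib.lead.DimFormula

/-!
# Finite fibres over height-one primes for generically algebraic finite type extensions of domains
-/

set_option autoImplicit false
universe u

namespace Groth.Agent.Lib.Helper18.HtOneFibre

open Cardinal

/-- For an algebraic, finite type, injective extension `R ⊆ S` of domains with `R` Noetherian, every prime
`q` of `S` over a prime `p` of `R` has `ht q ≤ ht p`. -/
theorem height_le_of_liesOver (R : Type u) [CommRing R] [IsDomain R] [IsNoetherianRing R]
    (S : Type u) [CommRing S] [IsDomain S] [Algebra R S] [FaithfulSMul R S] [Algebra.FiniteType R S]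
    [Algebra.IsAlgebraic R S] (p : Ideal R) [p.IsPrime] (q : Ideal S) [q.IsPrime] [q.LiesOver p] :
    q.height ≤ p.height := by
  have h := Groth.Agent.Lib.lead.DimFormula.dim_ineq R S p q
  rw [_root_.trdeg_eq_zero (R := R) (A := S), add_zero] at h
  have h2 : (q.height : Cardinal.{u}) ≤ (p.height : Cardinal.{u}) := le_trans le_self_add h
  exact_mod_cast h2

/-- The primes over a height one prime are finite in number. -/
theorem finite_primesOver_of_height_eq_one (R : Type u) [CommRing R] [IsDomain R] [IsNoetherianRing R]
    (S : Type u) [CommRing S] [IsDomain S] [Algebra R S] [FaithfulSMul R S] [Algebra.FiniteType R S]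
    [Algebra.IsAlgebraic R S] (p : Ideal R) [p.IsPrime] (hp : p.height = 1) :
    (p.primesOver S).Finite := by
  have hS : IsNoetherianRing S := Algebra.FiniteType.isNoetherianRing R S
  refine Set.Finite.subset ((p.map (algebraMap R S)).finite_minimalPrimes_of_isNoetherianRing S) ?_
  rintro q ⟨hq, hqp⟩
  refine ⟨⟨hq, ?_⟩, ?_⟩
  · rw [Ideal.map_le_iff_le_comap, ← Ideal.under_def, ← hqp.over]
  · rintro q' ⟨hq', hpq'⟩ hq'q
    by_contra hne
    have hlt : q' < q := lt_of_le_of_ne hq'q (fun h => hne (h ▸ le_rfl))
    have hover : q'.LiesOver p := by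
      refine ⟨le_antisymm ?_ ?_⟩
      · rw [Ideal.under_def, ← Ideal.map_le_iff_le_comap]; exact hpq'
      · rw [hqp.over]; exact Ideal.comap_mono hq'q
    have h1 : q.height ≤ 1 := hp ▸ height_le_of_liesOver R S p q
    have h2 : q'.height + 1 ≤ q.height := Ideal.height_add_one_le_of_lt_of_isPrime hlt
    have h3 : q'.height = 0 := by
      have : q'.height + 1 ≤ 1 := h2.trans h1
      have h4 : q'.height ≤ 0 := by
        have := (ENat.add_le_add_iff_right ENat.one_ne_top).1 (by simpa using this : q'.height + 1 ≤ 0 + 1)
        exact this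
      exact le_antisymm h4 bot_le
    have h5 : q' = ⊥ := Ideal.height_eq_zero_iff_eq_bot.1 h3
    have h6 : p = ⊥ := by
      rw [hover.over, h5]
      exact Ideal.under_bot (A := R) (B := S)
    rw [h6] at hp
    simp at hp

/-- Spectrum version: the fibre of `Spec S → Spec R` over a height one prime is finite. -/
theorem finite_comap_preimage_singleton (R : Type u) [CommRing R] [IsDomain R] [IsNoetherianRing R]
    (S : Type u) [CommRing S] [IsDomain S] [Algebra R S] [FaithfulSMul R S] [Algebra.FiniteType R S]
    [Algebra.IsAlgebraic R S] (p : PrimeSpectrum R) (hp : p.asIdeal.height = 1) :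
    (PrimeSpectrum.comap (algebraMap R S) ⁻¹' {p}).Finite := by
  refine Set.Finite.of_finite_image (f := PrimeSpectrum.asIdeal)
    ((finite_primesOver_of_height_eq_one R S p.asIdeal hp).subset ?_)
    (fun _ _ _ _ h => PrimeSpectrum.ext h)
  rintro _ ⟨q, hq, rfl⟩
  refine ⟨q.isPrime, ⟨?_⟩⟩
  have := congrArg PrimeSpectrum.asIdeal hq
  exact this.symm

end Groth.Agent.Lib.Helper18.HtOneFibre
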