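import Mathlib
import Groth.Agent.Lib.Helper18.HtOneFibre

set_option autoImplicit false
universe u
open CategoryTheory AlgebraicGeometry

namespace Groth.Agent.Lib.Helper18.HtOneFibre

variable {X Y : Scheme.{u}}

/-- evaluation of sections at a point, landing in the residue field -/
noncomputable def ev (X : Scheme.{u}) (U : X.Opens) (x : X) (hx : x ∈ U) : Γ(X, U) →+* X.residueField x :=
  (X.presheaf.germ U x hx ≫ X.residue x).hom

theorem residue_bijective_of_isField (X : Scheme.{u}) (x : X)
    (hF : IsField (X.presheaf.stalk x)) : Function.Bijective (X.residue x).hom := by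
  refine ⟨?_, X.residue_surjective x⟩
  change Function.Injective (IsLocalRing.residue (X.presheaf.stalk x))
  rw [RingHom.injective_iff_ker_eq_bot, IsLocalRing.ker_residue]
  exact IsLocalRing.isField_iff_maximalIdeal_eq.mp hF

theorem ev_injective [IsIntegral X] (U : X.Opens) (x : X) (hx : x ∈ U) (hgen : x = genericPoint X) :
    Function.Injective (ev X U x hx) := by
  subst hgen
  have h1 := germ_injective_of_isIntegral X (genericPoint X) hx
  have h2 := (residue_bijective_of_isField X (genericPoint X) (Field.toIsField X.functionField)).1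
  exact h2.comp h1

theorem isFractionRing_ev [IsIntegral X] (U : X.Opens) (hU : IsAffineOpen U) (x : X) (hx : x ∈ U)
    (hgen : x = genericPoint X) :
    @IsFractionRing Γ(X, U) _ (X.residueField x) _ (ev X U x hx).toAlgebra := by
  subst hgen
  haveI : Nonempty U := ⟨⟨_, hx⟩⟩
  have h0 := functionField_isFractionRing_of_isAffineOpen X U hU
  letI := (ev X U (genericPoint X) hx).toAlgebra
  let e : X.functionField ≃+* X.residueField (genericPoint X) :=
    RingEquiv.ofBijective (X.residue (genericPoint X)).hom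
      (residue_bijective_of_isField X (genericPoint X) (Field.toIsField X.functionField))
  let e' : X.functionField ≃ₐ[Γ(X, U)] X.residueField (genericPoint X) :=
    AlgEquiv.ofRingEquiv (f := e) (fun r => rfl)
  exact IsLocalization.isLocalization_of_algEquiv _ e'


/-- compatibility of evaluation with a morphism -/
theorem ev_comp (f : X ⟶ Y) (V : Y.Opens) (U : X.Opens) (e : U ≤ f ⁻¹ᵁ V) (x : X) (hx : x ∈ U)
    (hfx : f x ∈ V) :
    (f.residueFieldMap x).hom.comp (ev Y V (f x) hfx) = (ev X U x hx).comp (f.appLE V U e).hom := by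
  unfold ev
  rw [← CommRingCat.hom_comp, ← CommRingCat.hom_comp]
  congr 1
  rw [Category.assoc, Scheme.residue_residueFieldMap, ← Category.assoc, Scheme.Hom.germ_stalkMap,
    Scheme.Hom.appLE, Category.assoc, Category.assoc]
  congr 1
  rw [← Category.assoc, X.presheaf.germ_res]


/-- For a morphism of integral schemes mapping generic point to generic point with algebraic extension of residue
fields at the generic points, the maps on sections over affine opens are injective and algebraic. -/
theorem appLE_injective_isAlgebraic [IsIntegral X] [IsIntegral Y] (f : X ⟶ Y)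
    (hgen : f (genericPoint X) = genericPoint Y)
    (halg : (f.residueFieldMap (genericPoint X)).hom.IsIntegral)
    (V : Y.Opens) (hV : IsAffineOpen V) (U : X.Opens) (e : U ≤ f ⁻¹ᵁ V) (hne : (U : Set X).Nonempty) :
    Function.Injective (f.appLE V U e).hom ∧
      @Algebra.IsAlgebraic Γ(Y, V) Γ(X, U) _ _ (f.appLE V U e).hom.toAlgebra := by
  have hη : genericPoint X ∈ U := ((genericPoint_spec X).mem_open_set_iff U.isOpen).mpr
    (by simpa [Set.inter_comm] using hne)
  have hfη : f (genericPoint X) ∈ V := e hη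
  have hfrac := isFractionRing_ev V hV (f (genericPoint X)) hfη hgen
  haveI : Nonempty V := ⟨⟨_, hfη⟩⟩
  haveI : Nonempty U := ⟨⟨_, hη⟩⟩
  have hinjY := ev_injective V (f (genericPoint X)) hfη hgen
  have hinjX := ev_injective U (genericPoint X) hη rfl
  have hsq := ev_comp f V U e (genericPoint X) hη hfη
  have hinj : Function.Injective (f.appLE V U e).hom := by
    have h1 : Function.Injective ((f.residueFieldMap (genericPoint X)).hom.comp
        (ev Y V (f (genericPoint X)) hfη)) :=
      (RingHom.injective (f.residueFieldMap (genericPoint X)).hom).comp hinjY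
    rw [hsq, RingHom.coe_comp] at h1
    exact Function.Injective.of_comp h1
  refine ⟨hinj, ?_⟩
  letI a1 : Algebra Γ(Y, V) Γ(X, U) := (f.appLE V U e).hom.toAlgebra
  letI a2 : Algebra Γ(Y, V) (Y.residueField (f (genericPoint X))) :=
    (ev Y V (f (genericPoint X)) hfη).toAlgebra
  letI a3 : Algebra (Y.residueField (f (genericPoint X))) (X.residueField (genericPoint X)) :=
    (f.residueFieldMap (genericPoint X)).hom.toAlgebra
  letI a4 : Algebra Γ(X, U) (X.residueField (genericPoint X)) := (ev X U (genericPoint X) hη).toAlgebra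
  letI a5 : Algebra Γ(Y, V) (X.residueField (genericPoint X)) :=
    ((f.residueFieldMap (genericPoint X)).hom.comp (ev Y V (f (genericPoint X)) hfη)).toAlgebra
  haveI t1 : IsScalarTower Γ(Y, V) (Y.residueField (f (genericPoint X))) (X.residueField (genericPoint X)) :=
    IsScalarTower.of_algebraMap_eq (fun _ => rfl)
  haveI t2 : IsScalarTower Γ(Y, V) Γ(X, U) (X.residueField (genericPoint X)) :=
    IsScalarTower.of_algebraMap_eq (fun r => by
      change ((f.residueFieldMap (genericPoint X)).hom.comp (ev Y V (f (genericPoint X)) hfη)) r = _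
      rw [hsq]; rfl)
  haveI : IsFractionRing Γ(Y, V) (Y.residueField (f (genericPoint X))) := hfrac
  haveI : Algebra.IsAlgebraic (Y.residueField (f (genericPoint X))) (X.residueField (genericPoint X)) := by
    have : Algebra.IsIntegral (Y.residueField (f (genericPoint X))) (X.residueField (genericPoint X)) :=
      ⟨halg⟩
    infer_instance
  haveI hRL : Algebra.IsAlgebraic Γ(Y, V) (X.residueField (genericPoint X)) :=
    (IsFractionRing.comap_isAlgebraic_iff (A := Γ(Y, V))
      (K := Y.residueField (f (genericPoint X)))).mpr inferInstance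
  exact Algebra.IsAlgebraic.of_injective (IsScalarTower.toAlgHom Γ(Y, V) Γ(X, U) (X.residueField (genericPoint X)))
    hinjX


set_option backward.isDefEq.respectTransparency false in
/-- the part of the fibre over a codimension one point lying in an affine open is finite -/
theorem finite_inter_fibre [IsIntegral X] [IsIntegral Y] [IsLocallyNoetherian Y] (f : X ⟶ Y)
    [LocallyOfFiniteType f] (hgen : f (genericPoint X) = genericPoint Y)
    (halg : (f.residueFieldMap (genericPoint X)).hom.IsIntegral) (ξ : Y)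
    (hξ : ringKrullDim (Y.presheaf.stalk ξ) = 1)
    (V : Y.Opens) (hV : IsAffineOpen V) (hξV : ξ ∈ V) (U : X.Opens) (hU : IsAffineOpen U)
    (e : U ≤ f ⁻¹ᵁ V) : ((U : Set X) ∩ f ⁻¹' {ξ}).Finite := by
  rcases (U : Set X).eq_empty_or_nonempty with h | hne
  · rw [h]; simp
  obtain ⟨hinj, halg'⟩ := appLE_injective_isAlgebraic f hgen halg V hV U e hne
  letI : Algebra Γ(Y, V) Γ(X, U) := (f.appLE V U e).hom.toAlgebra
  haveI : Nonempty V := ⟨⟨ξ, hξV⟩⟩
  haveI : Nonempty U := hne.to_subtype
  haveI : IsNoetherianRing Γ(Y, V) := IsLocallyNoetherian.component_noetherian ⟨V, hV⟩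
  haveI : FaithfulSMul Γ(Y, V) Γ(X, U) := (faithfulSMul_iff_algebraMap_injective _ _).mpr hinj
  haveI : Algebra.FiniteType Γ(Y, V) Γ(X, U) := f.finiteType_appLE hV hU e
  have hp : (hV.primeIdealOf ⟨ξ, hξV⟩).asIdeal.height = 1 := by
    letI := TopCat.Presheaf.algebra_section_stalk Y.presheaf (⟨ξ, hξV⟩ : V)
    have := hV.isLocalization_stalk ⟨ξ, hξV⟩
    have h := IsLocalization.AtPrime.ringKrullDim_eq_height (hV.primeIdealOf ⟨ξ, hξV⟩).asIdeal
      (Y.presheaf.stalk ξ)
    rw [hξ] at h
    exact_mod_cast h.symm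
  have hfin := finite_comap_preimage_singleton Γ(Y, V) Γ(X, U) (hV.primeIdealOf ⟨ξ, hξV⟩) hp
  refine (hfin.image hU.fromSpec).subset ?_
  rintro x ⟨hxU, hx⟩
  refine ⟨hU.primeIdealOf ⟨x, hxU⟩, ?_, hU.fromSpec_primeIdealOf ⟨x, hxU⟩⟩
  apply hV.fromSpec.isOpenEmbedding.injective
  have h1 := congrArg (fun g => g (hU.primeIdealOf ⟨x, hxU⟩)) (IsAffineOpen.SpecMap_appLE_fromSpec f hV hU e)
  simp only [Scheme.Hom.comp_apply] at h1
  rw [hU.fromSpec_primeIdealOf ⟨x, hxU⟩] at h1
  rw [hV.fromSpec_primeIdealOf ⟨ξ, hξV⟩]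
  have hx' : f x = ξ := hx
  exact h1.trans hx'


/-- the whole fibre over a codimension one point is finite (quasi-compact morphism) -/
theorem finite_fibre [IsIntegral X] [IsIntegral Y] [IsLocallyNoetherian Y] (f : X ⟶ Y)
    [LocallyOfFiniteType f] [QuasiCompact f] (hgen : f (genericPoint X) = genericPoint Y)
    (halg : (f.residueFieldMap (genericPoint X)).hom.IsIntegral) (ξ : Y)
    (hξ : ringKrullDim (Y.presheaf.stalk ξ) = 1) : (f ⁻¹' {ξ}).Finite := by
  obtain ⟨_, ⟨V, hV : IsAffineOpen V, rfl⟩, hξV, -⟩ :=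
    Y.isBasis_affineOpens.exists_subset_of_mem_open (Set.mem_univ ξ) isOpen_univ
  have hc : IsCompact (f ⁻¹ᵁ V : Set X) :=
    QuasiCompact.isCompact_preimage (f := f) _ V.isOpen hV.isCompact
  obtain ⟨s, hs, hU⟩ := (isCompact_iff_finite_and_eq_biUnion_affineOpens (U := f ⁻¹ᵁ V)).mp hc
  have hsub : f ⁻¹' {ξ} ⊆ ⋃ i ∈ s, ((i : X.Opens) : Set X) ∩ f ⁻¹' {ξ} := by
    intro x hx
    have hxV : x ∈ f ⁻¹ᵁ V := by
      change f x ∈ V
      rw [show f x = ξ from hx]; exact hξV
    rw [hU] at hxV
    simp only [TopologicalSpace.Opens.mem_iSup] at hxV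
    obtain ⟨i, hi, hxi⟩ := hxV
    exact Set.mem_biUnion hi ⟨hxi, hx⟩
  refine (hs.biUnion fun i hi => ?_).subset hsub
  refine finite_inter_fibre f hgen halg ξ hξ V hV hξV i i.2 ?_
  rw [hU]
  exact le_iSup₂ (f := fun (i : X.affineOpens) (_ : i ∈ s) => (i : X.Opens)) i hi

end Groth.Agent.Lib.Helper18.HtOneFibre
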